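import Cfsg.Agent.Lib.ChevStr.Derived
import Cfsg.Agent.Lib.ChevStr.Poincare
import Cfsg.Agent.Lib.KnownSimple.ChevPSylow

set_option autoImplicit false

/-!
Facts about `B`, the minimal parabolic subgroups and the root subgroups of the fundamental roots
used to put an automorphism of a Chevalley group in standard form.
-/

namespace CfsgLib.ChevAut

open Cfsg.Lie CfsgLib.ChevStr
open scoped MatrixGroups

variable {D : ChevalleyDatum} {F : Type*} [Field F] (C : ChevCore D F)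

/-- The union of `B` and the cell of a fundamental reflection. -/
def InP (i : Fin D.rank) (g : GL D.Idx F) : Prop :=
  g ∈ D.borelSubgroup F ∨ g ∈ C.bigCell (C.nS i)

theorem sPerm_injective : Function.Injective C.hR.sPerm := by
  intro i j h
  by_contra hne
  have h1 : D.IsPosRoot (C.hR.sPerm i (C.pRoot j)) := by
    refine C.hR.refl_pos i (C.R.simple_pos j) fun e => hne ?_
    have h5 : (C.R.α (D.simple j.val)) j = (C.R.α (D.simple i.val)) j :=
      congrArg (fun r => C.R.α r j) e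
    rw [C.R.α_simple, C.R.α_simple, Pi.single_eq_same] at h5
    by_contra hij
    rw [Pi.single_eq_of_ne (fun h => hij h.symm)] at h5
    exact one_ne_zero h5
  rw [h, C.sPerm_pRoot] at h1
  exact C.R.not_pos_and_neg h1 ((C.R.isNeg_neg_iff (C.R.simple_lt j)).2 (C.R.simple_pos j))

theorem cell_eq {i j : Fin D.rank} (h : C.nS i ∈ C.bigCell (C.nS j)) : i = j :=
  sPerm_injective C (C.moves_eq_of_mem (C.nS_mem_monomial i) (C.nS_mem_monomial j)
    (ChevCore.Acts.moves C (C.acts_nS i)) (ChevCore.Acts.moves C (C.acts_nS j)) h)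

theorem nS_not_mem_borel (i : Fin D.rank) : C.nS i ∉ D.borelSubgroup F := fun h => by
  have h1 : C.nS i ∈ D.diagonalSubgroup F := by
    rw [← C.borel_inf_monomial]; exact Subgroup.mem_inf.2 ⟨h, C.nS_mem_monomial i⟩
  rw [C.diagonalSubgroup_eq] at h1
  obtain ⟨c, hc⟩ := h1
  have h2 := ChevCore.Moves.unique C (C.moves_torus c)
    (hc ▸ ChevCore.Acts.moves C (C.acts_nS i))
  have h3 := congrArg (fun w : Equiv.Perm (Fin D.nroots) => ((w (C.pRoot i) : Fin D.nroots) : ℕ)) h2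
  simp only [Equiv.Perm.one_apply, C.sPerm_pRoot] at h3
  exact C.R.neg_ne _ (C.R.simple_lt i) h3.symm

theorem bigCell_not_borel {i : Fin D.rank} {g : GL D.Idx F} (h : g ∈ C.bigCell (C.nS i)) :
    g ∉ D.borelSubgroup F := fun hg => by
  obtain ⟨a, ha, b, hb, rfl⟩ := C.mem_bigCell.1 h
  refine nS_not_mem_borel C i ?_
  rw [show C.nS i = a⁻¹ * (a * C.nS i * b) * b⁻¹ by group]
  exact mul_mem (mul_mem (inv_mem ha) hg) (inv_mem hb)

theorem nS_mem_of_simple {K : Subgroup (GL D.Idx F)} {i : Fin D.rank}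
    (h1 : ∀ t, C.xGL (D.simple i.val) t ∈ K) (h2 : ∀ t, C.xGL (D.neg (D.simple i.val)) t ∈ K) :
    C.nS i ∈ K := by
  rw [ChevCore.nS, ChevCore.nGL, ChevalleyDatum.nWord, C.wordGL_cons, C.wordGL_cons, C.wordGL_cons,
    C.wordGL_nil, mul_one]
  exact mul_mem (h1 _) (mul_mem (h2 _) (h1 _))

/-- A subgroup which is `B` and one further cell is a minimal parabolic subgroup. -/
theorem exists_simple_of_two_cells {K : Subgroup (GL D.Idx F)} (hBK : D.borelSubgroup F ≤ K)
    {g : GL D.Idx F} (hgG : g ∈ D.group F) (hgK : g ∈ K) (hgB : g ∉ D.borelSubgroup F)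
    (hK : ∀ x ∈ K, x ∈ D.borelSubgroup F ∨ x ∈ C.bigCell g) :
    ∃ j, g ∈ C.bigCell (C.nS j) := by
  obtain ⟨m, hm, hcell⟩ := C.exists_bigCell hgG
  obtain ⟨a, ha, b, hb, hab⟩ := C.mem_bigCell.1 hcell
  obtain ⟨w, hw, -⟩ := C.exists_moves hm
  have hmK : m ∈ K := by
    rw [show m = a⁻¹ * g * b⁻¹ by rw [hab]; group]
    exact mul_mem (mul_mem (inv_mem (hBK ha)) hgK) (inv_mem (hBK hb))
  have hne : C.hR.invSet w ≠ ∅ := fun h0 => hgB (by
    obtain rfl := C.hR.eq_one_of_invSet_eq_empty hw.1 h0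
    rw [hab]
    exact mul_mem (mul_mem ha (le_sup_right (a := D.posUnipotent F)
      (C.mem_diagonal_of_moves_one hm hw))) hb)
  obtain ⟨i, -, hi⟩ := C.hR.weylSub_exists_neg (J := Finset.univ)
    (by rw [C.hR.weylSub_univ]; exact hw.1) hne
  have hnegK : ∀ t, C.xGL (D.neg (D.simple i.val)) t ∈ K := by
    intro t
    obtain ⟨u, hu⟩ := hw.2 (C.pNeg i) t
    have hp : D.IsPosRoot (w (C.pNeg i)) := by
      rw [show ((w (C.pNeg i) : Fin D.nroots) : ℕ) = D.neg (w (C.pRoot i)) from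
        C.hR.apply_neg hw.1 (C.pRoot i), C.R.isPos_neg_iff (w _).isLt]
      exact hi
    rw [show C.xGL (D.neg (D.simple i.val)) t = m⁻¹ * C.xGL (w (C.pNeg i) : Fin D.nroots) u * m by
      rw [← hu]; show _ = m⁻¹ * (m * C.xGL (D.neg (D.simple i.val)) t * m⁻¹) * m; group]
    exact mul_mem (mul_mem (inv_mem hmK) (hBK (C.pos_mem_borel hp u))) hmK
  have hnK := nS_mem_of_simple C (fun t => hBK (C.pos_mem_borel (C.R.simple_pos i) t)) hnegK
  rcases hK _ hnK with h | h
  · exact absurd h (nS_not_mem_borel C i)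
  · exact ⟨i, C.bigCell_symm h⟩

include C in
theorem mem_borel_of_normalizes_pos {g : GL D.Idx F} (hg : g ∈ D.group F)
    (h : ∀ u ∈ D.posUnipotent F, g * u * g⁻¹ ∈ D.posUnipotent F) : g ∈ D.borelSubgroup F := by
  obtain ⟨n, hn, hcell⟩ := C.exists_bigCell hg
  obtain ⟨a, ha, b, hb, hab⟩ := C.mem_bigCell.1 hcell
  obtain ⟨w, hw, -⟩ := C.exists_moves hn
  have hpos := ChevCore.Moves.pos_of_normalizes C hw fun x hx => by
    have h1 := (Subgroup.mem_normalizer_iff.1 (inv_mem (C.borel_normalizes hb)) x).1 hx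
    have h2 := (Subgroup.mem_normalizer_iff.1 (inv_mem (C.borel_normalizes ha)) _).1 (h _ h1)
    rw [hab] at h2
    simpa [mul_assoc] using h2
  obtain rfl : w = 1 := C.hR.eq_one_of_invSet_eq_empty hw.1
    (Finset.eq_empty_iff_forall_notMem.2 fun s hs => by
      rw [C.hR.mem_invSet] at hs
      exact C.R.not_pos_and_neg (hpos s hs.1) hs.2)
  rw [hab]
  exact mul_mem (mul_mem ha (le_sup_right (a := D.posUnipotent F)
    (C.mem_diagonal_of_moves_one hn hw))) hb

/-- A representative of the longest element. -/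
structure Longest where
  n : GL D.Idx F
  w : Equiv.Perm (Fin D.nroots)
  mono : n ∈ D.monomialSubgroup F
  acts : C.Acts n w
  pos : ∀ s : Fin D.nroots, D.IsPosRoot s → D.IsNegRoot (w s)
  neg : ∀ s : Fin D.nroots, D.IsNegRoot s → D.IsPosRoot (w s)

theorem nonempty_longest : Nonempty (Longest C) := by
  obtain ⟨w, hw, hneg⟩ := C.hR.exists_longest
  obtain ⟨n, hn, hact⟩ := C.exists_rep (F := F) hw
  refine ⟨⟨n, w, C.rep_mem_monomial hn, hact, hneg, fun s hs => ?_⟩⟩
  have h1 := hneg ⟨D.neg s, C.R.neg_lt s s.isLt⟩ ((C.R.isPos_neg_iff s.isLt).2 hs)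
  rw [C.hR.apply_neg hw s, C.R.isNeg_neg_iff (w s).isLt] at h1
  exact h1

namespace Longest

variable {C} (L : Longest C)

include L

theorem conj_pos : ∀ g ∈ D.posUnipotent F, L.n * g * L.n⁻¹ ∈ D.negUnipotent F := by
  rw [C.posUnipotent_eq]
  exact C.conj_Ucl_le (ChevCore.Acts.moves C L.acts) fun s hs t =>
    C.xGL_mem_negUnipotent (L.pos s hs) t

theorem conj_neg : ∀ g ∈ D.negUnipotent F, L.n * g * L.n⁻¹ ∈ D.posUnipotent F := by
  rw [C.negUnipotent_eq]
  exact C.conj_Ucl_le (ChevCore.Acts.moves C L.acts) fun s hs t =>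
    C.xGL_mem_posUnipotent (L.neg s hs) t

theorem inv_pos (s : Fin D.nroots) (hs : D.IsNegRoot s) : D.IsPosRoot (L.w⁻¹ s) := by
  refine (C.R.pos_or_neg (L.w⁻¹ s).isLt).resolve_right fun hn => ?_
  have h := L.neg _ hn
  rw [Equiv.Perm.inv_def, Equiv.apply_symm_apply] at h
  exact C.R.not_pos_and_neg h hs

theorem inv_neg (s : Fin D.nroots) (hs : D.IsPosRoot s) : D.IsNegRoot (L.w⁻¹ s) := by
  refine (C.R.pos_or_neg (L.w⁻¹ s).isLt).resolve_left fun hn => ?_
  have h := L.pos _ hn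
  rw [Equiv.Perm.inv_def, Equiv.apply_symm_apply] at h
  exact C.R.not_pos_and_neg hs h

theorem conj_inv_neg : ∀ g ∈ D.negUnipotent F, L.n⁻¹ * g * L.n ∈ D.posUnipotent F := by
  intro g hg
  rw [C.negUnipotent_eq] at hg
  have := C.conj_Ucl_le (ChevCore.Acts.moves C (ChevCore.Acts.inv C L.acts)) (T := D.posUnipotent F)
    (fun s hs t => C.xGL_mem_posUnipotent (L.inv_pos s hs) t) g hg
  simpa using this

theorem conj_inv_pos : ∀ g ∈ D.posUnipotent F, L.n⁻¹ * g * L.n ∈ D.negUnipotent F := by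
  intro g hg
  rw [C.posUnipotent_eq] at hg
  have := C.conj_Ucl_le (ChevCore.Acts.moves C (ChevCore.Acts.inv C L.acts)) (T := D.negUnipotent F)
    (fun s hs t => C.xGL_mem_negUnipotent (L.inv_neg s hs) t) g hg
  simpa using this

/-- The longest element sends fundamental roots to negatives of fundamental roots. -/
theorem exists_simple (j : Fin D.rank) : ∃ k : Fin D.rank, L.w (C.pNeg j) = C.pRoot k := by
  set r := L.w (C.pNeg j) with hr
  have hrpos : D.IsPosRoot r :=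
    L.neg _ ((C.R.isNeg_neg_iff (C.R.simple_lt j)).2 (C.R.simple_pos j))
  set s := L.w * C.hR.sPerm j * L.w⁻¹ with hs
  have hsW : s ∈ C.hR.weyl := mul_mem (mul_mem L.acts.1 (C.hR.sPerm_mem j)) (inv_mem L.acts.1)
  have honly : ∀ x : Fin D.nroots, D.IsPosRoot x → D.IsNegRoot (s x) → x = r := by
    intro x hx hsx
    by_contra hne
    have h1 := L.inv_neg x hx
    have h2 : D.IsNegRoot (C.hR.sPerm j (L.w⁻¹ x)) := by
      refine (C.R.pos_or_neg (C.hR.sPerm j (L.w⁻¹ x)).isLt).resolve_left fun hp => ?_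
      by_cases he : ((C.hR.sPerm j (L.w⁻¹ x) : Fin D.nroots) : ℕ) = D.simple j.val
      · refine hne ?_
        have h3 : C.hR.sPerm j (L.w⁻¹ x) = C.pRoot j := Fin.ext he
        have h4 : L.w⁻¹ x = C.pNeg j := by rw [← C.sPerm_pRoot, ← h3, C.hR.sPerm_sPerm]
        rw [hr, ← h4, Equiv.Perm.inv_def, Equiv.apply_symm_apply]
      · have h3 := C.hR.refl_pos j hp he
        rw [← C.hR.sPerm_val j (C.hR.sPerm j (L.w⁻¹ x)), C.hR.sPerm_sPerm] at h3
        exact C.R.not_pos_and_neg h3 h1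
    have h5 := L.neg _ h2
    exact C.R.not_pos_and_neg h5 hsx
  have hne : C.hR.invSet s ≠ ∅ := fun h0 => by
    have h1 := C.hR.eq_one_of_invSet_eq_empty hsW h0
    have h2 : C.hR.sPerm j = 1 := by
      rw [show C.hR.sPerm j = L.w⁻¹ * s * L.w by rw [hs]; group, h1]; group
    have h3 := congrArg (fun w : Equiv.Perm (Fin D.nroots) => ((w (C.pRoot j) : Fin D.nroots) : ℕ)) h2
    simp only [Equiv.Perm.one_apply, C.sPerm_pRoot] at h3
    exact C.R.neg_ne _ (C.R.simple_lt j) h3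
  obtain ⟨k, -, hk⟩ := C.hR.weylSub_exists_neg (J := Finset.univ)
    (by rw [C.hR.weylSub_univ]; exact hsW) hne
  exact ⟨k, (honly (C.pRoot k) (C.R.simple_pos k) hk).symm⟩

end Longest

include C in
theorem isPGroup_negUnipotent [Fintype F] (p : ℕ) [Fact p.Prime] [CharP F p] :
    IsPGroup p (D.negUnipotent F) := by
  obtain ⟨L⟩ := nonempty_longest C
  obtain ⟨k, -, hk⟩ := FiniteField.card F p
  have hU : IsPGroup p (D.posUnipotent F) := by
    rw [C.posUnipotent_eq]
    refine IsPGroup.of_card (n := (k : ℕ) * Set.ncard {r | D.IsPosRoot r}) ?_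
    rw [C.card_Ucl C.R.isClosed_pos, hk, pow_mul]
  have hV : D.negUnipotent F = (D.posUnipotent F).map (MulAut.conj L.n).toMonoidHom := by
    refine le_antisymm ?_ ?_
    · intro g hg
      refine ⟨L.n⁻¹ * g * L.n, L.conj_inv_neg g hg, ?_⟩
      show L.n * (L.n⁻¹ * g * L.n) * L.n⁻¹ = g
      group
    · rintro _ ⟨g, hg, rfl⟩; exact L.conj_pos g hg
  rw [hV]
  exact hU.map _

include C in
theorem mem_torus_of_normalizes {g : GL D.Idx F} (hg : g ∈ D.borelSubgroup F)
    (h : ∀ v ∈ D.negUnipotent F, g * v * g⁻¹ ∈ D.negUnipotent F) :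
    ∃ c, g = C.R.torus c := by
  obtain ⟨L⟩ := nonempty_longest C
  obtain ⟨u, hu, c, rfl⟩ := C.mem_borel.1 hg
  refine ⟨c, ?_⟩
  have hc : C.R.torus c ∈ D.diagonalSubgroup F := by rw [C.diagonalSubgroup_eq]; exact ⟨c, rfl⟩
  have h1 : ∀ v ∈ D.negUnipotent F, u * v * u⁻¹ ∈ D.negUnipotent F := fun v hv => by
    have h2 := h _ ((Subgroup.mem_normalizer_iff.1 (inv_mem (C.diagonal_normalizes_neg hc)) v).1 hv)
    simpa [mul_assoc] using h2
  have hL := C.monomial_le_group L.mono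
  have hu' : u ∈ D.group F := C.borel_le_group (le_sup_left (b := D.diagonalSubgroup F) hu)
  have h3 : L.n * u * L.n⁻¹ ∈ D.borelSubgroup F := by
    refine mem_borel_of_normalizes_pos C (mul_mem (mul_mem hL hu') (inv_mem hL)) fun x hx => ?_
    have h4 := L.conj_neg _ (h1 _ (L.conj_inv_pos x hx))
    rw [show L.n * u * L.n⁻¹ * x * (L.n * u * L.n⁻¹)⁻¹ =
      L.n * (u * (L.n⁻¹ * x * L.n) * u⁻¹) * L.n⁻¹ by group]
    exact h4
  have h5 := (Subgroup.eq_bot_iff_forall _).1 C.borel_inf_negUnipotent _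
    (Subgroup.mem_inf.2 ⟨h3, L.conj_pos u hu⟩)
  have h6 : u = 1 := by simpa using h5
  rw [h6, one_mul]

/-- The elements of a cell of a fundamental reflection end in a fundamental root element. -/
theorem exists_param {i : Fin D.rank} {g : GL D.Idx F} (h : g ∈ C.bigCell (C.nS i)) :
    ∃ t, g * (C.nS i * C.xGL (D.simple i.val) t)⁻¹ ∈ D.borelSubgroup F := by
  obtain ⟨a, ha, b, hb, rfl⟩ := C.mem_bigCell.1 h
  obtain ⟨v, hv, t, c, rfl⟩ := C.borel_decomp i hb
  refine ⟨(C.R.torusChar c⁻¹ (C.R.α (D.simple i.val)) : F) * t, ?_⟩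
  have hact := C.acts_torus c⁻¹ (C.pRoot i) t
  rw [map_inv, inv_inv] at hact
  change (C.R.torus c)⁻¹ * C.xGL (D.simple i.val) t * C.R.torus c =
    C.xGL (D.simple i.val) ((C.R.torusChar c⁻¹ (C.R.α (D.simple i.val)) : F) * t) at hact
  rw [← hact, show a * C.nS i * (v * C.xGL (D.simple i.val) t * C.R.torus c) *
      (C.nS i * ((C.R.torus c)⁻¹ * C.xGL (D.simple i.val) t * C.R.torus c))⁻¹ =
    a * (C.nS i * v * (C.nS i)⁻¹) * (C.nS i * C.R.torus c * (C.nS i)⁻¹) by group]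
  exact mul_mem (mul_mem ha (le_sup_left (b := D.diagonalSubgroup F)
    (C.Usub_le i (C.nS_conj_Usub i v hv)))) (C.conj_torus_mem_borel (C.nS_mem_monomial i) c)

/-- `V` meets a minimal parabolic subgroup in a root subgroup. -/
theorem neg_inter_parabolic [Fintype F] (i : Fin D.rank) {g : GL D.Idx F}
    (hV : g ∈ D.negUnipotent F) (hP : InP C i g) :
    ∃ t, g = C.xGL (D.neg (D.simple i.val)) t := by
  classical
  obtain ⟨p, hp⟩ := CharP.exists F
  have : Fact p.Prime := ⟨CharP.char_is_prime F p⟩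
  obtain ⟨P, hPset⟩ := C.exists_minimal_parabolic i
  have hmemP : ∀ x, x ∈ P ↔ InP C i x := fun x => by rw [← SetLike.mem_coe, hPset]; rfl
  set S := D.negUnipotent F ⊓ P with hS
  set R := D.rootSubgroup F (D.neg (D.simple i.val)) with hR
  have hneg : D.IsNegRoot (D.neg (D.simple i.val)) :=
    (C.R.isNeg_neg_iff (C.R.simple_lt i)).2 (C.R.simple_pos i)
  have hRS : R ≤ S := by
    intro x hx
    obtain ⟨t, rfl⟩ := C.mem_rootSubgroup.1 hx
    refine Subgroup.mem_inf.2 ⟨C.xGL_mem_negUnipotent hneg t, ?_⟩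
    have hn : C.nS i ∈ P := (hmemP _).2 (Or.inr (C.self_mem_bigCell _))
    obtain ⟨-, e, he⟩ := C.acts_nS i
    obtain ⟨h1, -, h2⟩ := he (C.pRoot i)
    have h3 := h2 ((e (C.pRoot i) : F) * t)
    rw [← mul_assoc, show ((e (C.pRoot i) : F) * (e (C.pRoot i) : F)) = 1 by
      rcases h1 with h | h <;> simp [h], one_mul, C.sPerm_pRoot] at h3
    rw [show C.xGL (D.neg (D.simple i.val)) t = _ from h3.symm]
    exact mul_mem (mul_mem hn ((hmemP _).2 (Or.inl (C.pos_mem_borel (C.R.simple_pos i) _)))) (inv_mem hn)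
  have hparam : ∀ x : S, ∃ o : Option F, ∀ z : GL D.Idx F, z = (match o with
      | none => 1
      | some t => C.nS i * C.xGL (D.simple i.val) t) → (x : GL D.Idx F) * z⁻¹ ∈ D.borelSubgroup F := by
    intro x
    rcases (hmemP _).1 (Subgroup.mem_inf.1 x.2).2 with h | h
    · exact ⟨none, fun z hz => by rw [hz, inv_one, mul_one]; exact h⟩
    · obtain ⟨t, ht⟩ := exists_param C h
      exact ⟨some t, fun z hz => by rw [hz]; exact ht⟩
  choose o ho using hparam
  have hinj : Function.Injective o := by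
    intro x y hxy
    have h1 := ho x _ rfl
    have h2 := ho y _ rfl
    rw [hxy] at h1
    have h3 := mul_mem h1 (inv_mem h2)
    simp only [mul_inv_rev, inv_inv, mul_assoc, inv_mul_cancel_left] at h3
    have h4 := (Subgroup.eq_bot_iff_forall _).1 C.borel_inf_negUnipotent _
      (Subgroup.mem_inf.2 ⟨h3, mul_mem (Subgroup.mem_inf.1 x.2).1 (inv_mem (Subgroup.mem_inf.1 y.2).1)⟩)
    exact Subtype.ext (mul_inv_eq_one.1 h4)
  have hcardS : Nat.card S ≤ Fintype.card F + 1 := by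
    have h := Nat.card_le_card_of_injective o hinj
    rwa [Nat.card_eq_fintype_card (α := Option F), Fintype.card_option] at h
  have hcardR : Nat.card R = Fintype.card F := by
    rw [← Nat.card_eq_fintype_card]
    refine (Nat.card_eq_of_bijective (fun t : F => (⟨C.xGL _ t, C.mem_rootSubgroup.2 ⟨t, rfl⟩⟩ : R))
      ⟨fun a b h => C.xGL_injective (C.R.neg_lt _ (C.R.simple_lt i)) (congrArg Subtype.val h),
        fun x => ?_⟩).symm
    obtain ⟨t, ht⟩ := C.mem_rootSubgroup.1 x.2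
    exact ⟨t, Subtype.ext ht.symm⟩
  obtain ⟨a, ha⟩ := IsPGroup.iff_card.1 ((isPGroup_negUnipotent C p).to_le (inf_le_left : S ≤ _))
  obtain ⟨f, -, hf⟩ := FiniteField.card F p
  have hle : Nat.card R ≤ Nat.card S := Nat.card_le_card_of_injective (Subgroup.inclusion hRS)
    (Subgroup.inclusion_injective hRS)
  have hq : 2 ≤ p := (Fact.out : p.Prime).two_le
  have hfpos : 0 < (f : ℕ) := f.pos
  have haf : a ≤ f := by
    by_contra hcon
    have h1 : p ^ ((f : ℕ) + 1) ≤ Nat.card S := ha ▸ Nat.pow_le_pow_right (by omega) (by omega)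
    rw [pow_succ, ← hf] at h1
    have h2 : 2 * Fintype.card F ≤ Fintype.card F * p := by
      rw [mul_comm 2]; exact Nat.mul_le_mul_left _ hq
    have h3 : 2 ≤ Fintype.card F := Fintype.one_lt_card
    omega
  have hfa : (f : ℕ) ≤ a := by
    rw [hcardR, ha, hf] at hle
    exact (Nat.pow_le_pow_iff_right (by omega)).1 hle
  have hRS' : R = S := Subgroup.eq_of_le_of_card_ge hRS (by
    rw [hcardR, ha, hf, le_antisymm haf hfa])
  have : g ∈ R := hRS' ▸ Subgroup.mem_inf.2 ⟨hV, (hmemP g).2 hP⟩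
  exact C.mem_rootSubgroup.1 this

theorem nGL_conj_simple (i : Fin D.rank) {c : F} (hc : c ≠ 0) (s : F) : ∃ v : F,
    C.nGL (D.simple i.val) c * C.xGL (D.simple i.val) s * (C.nGL (D.simple i.val) c)⁻¹ =
      C.xGL (D.neg (D.simple i.val)) v := by
  obtain ⟨-, e, he⟩ := C.acts_nS i
  have h2 := (he (C.pRoot i)).2.2 s
  rw [C.sPerm_pRoot] at h2
  have hn : C.nGL (D.simple i.val) c = C.R.torusSingle i (Units.mk0 c hc) * C.nS i :=
    C.nGL_simple i (Units.mk0 c hc)
  refine ⟨(C.R.torusChar (Pi.mulSingle i (Units.mk0 c hc)) (C.R.α (C.pNeg i)) : F) *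
    ((e (C.pRoot i) : F) * s), ?_⟩
  rw [hn, show C.R.torusSingle i (Units.mk0 c hc) * C.nS i * C.xGL (D.simple i.val) s *
      (C.R.torusSingle i (Units.mk0 c hc) * C.nS i)⁻¹ =
    C.R.torusSingle i (Units.mk0 c hc) * (C.nS i * C.xGL (D.simple i.val) s * (C.nS i)⁻¹) *
      (C.R.torusSingle i (Units.mk0 c hc))⁻¹ by group,
    show C.nS i * C.xGL (D.simple i.val) s * (C.nS i)⁻¹ = _ from h2]
  exact C.acts_torus _ (C.pNeg i) _

/-- The parameters of a product `x(a) x₋(b) x(a)` turning the positive root subgroup negative. -/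
theorem rankOne_rel (i : Fin D.rank) {a b v : F}
    (h : C.xGL (D.simple i.val) a * C.xGL (D.neg (D.simple i.val)) b * C.xGL (D.simple i.val) a *
      C.xGL (D.simple i.val) 1 * (C.xGL (D.simple i.val) a * C.xGL (D.neg (D.simple i.val)) b *
        C.xGL (D.simple i.val) a)⁻¹ = C.xGL (D.neg (D.simple i.val)) v) :
    b = -a⁻¹ := by
  classical
  set p := D.simple i.val with hp
  have hpn : p < D.nroots := C.R.simple_lt i
  have hb : b ≠ 0 := by
    rintro rfl
    rw [C.xGL_zero, mul_one, ← C.xGL_add, ← C.xGL_add, C.xGL_inv, ← C.xGL_add] at h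
    exact C.R.neg_ne p hpn (C.root_eq_of_xGL_eq hpn
      (by rw [show a + a + 1 + -(a + a) = (1 : F) by ring]; exact one_ne_zero) h).symm
  set α := a + b⁻¹ with hα
  obtain ⟨u, hu⟩ := nGL_conj_simple C i (c := -b⁻¹) (by simpa using hb) (1 : F)
  have hu0 : u ≠ 0 := by
    rintro rfl
    rw [C.xGL_zero, mul_inv_eq_one, mul_eq_left, C.xGL_eq_one_iff hpn] at hu
    exact one_ne_zero hu
  rw [← hp] at hu
  rw [C.xGL_neg_eq p hb] at h
  have hg : C.xGL p a * (C.xGL p b⁻¹ * C.nGL p (-b⁻¹) * C.xGL p b⁻¹) * C.xGL p a =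
      C.xGL p α * C.nGL p (-b⁻¹) * C.xGL p α := by
    rw [show C.xGL p a * (C.xGL p b⁻¹ * C.nGL p (-b⁻¹) * C.xGL p b⁻¹) * C.xGL p a =
      C.xGL p a * C.xGL p b⁻¹ * C.nGL p (-b⁻¹) * (C.xGL p b⁻¹ * C.xGL p a) by group,
      ← C.xGL_add, ← C.xGL_add, add_comm b⁻¹ a]
  rw [hg] at h
  have hxα : C.xGL p α * C.xGL p 1 * (C.xGL p α)⁻¹ = C.xGL p 1 := by
    rw [mul_inv_eq_iff_eq_mul, ← C.xGL_add, ← C.xGL_add, add_comm]
  have h' : C.xGL p α * C.xGL (D.neg p) u * (C.xGL p α)⁻¹ = C.xGL (D.neg p) v := by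
    rw [← hu, ← h]
    conv_lhs => rw [← hxα]
    group
  have hv : v ≠ 0 := by
    rintro rfl
    rw [C.xGL_zero, mul_inv_eq_one, mul_eq_left, C.xGL_eq_one_iff (C.R.neg_lt p hpn)] at h'
    exact hu0 h'
  rw [mul_inv_eq_iff_eq_mul, C.xGL_neg_eq p hu0, C.xGL_neg_eq p hv] at h'
  set T : F → GL D.Idx F := fun z => if hz : z = 0 then 1 else C.R.torusSingle i (Units.mk0 z hz)
  have hn : ∀ z : F, z ≠ 0 → C.nGL p z = T z * C.nS i := fun z hz => by
    simp only [T, dif_neg hz]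
    exact C.nGL_simple i (Units.mk0 z hz)
  have hT : ∀ z : F, T z ∈ D.borelSubgroup F := fun z => by
    simp only [T]
    split_ifs
    exacts [one_mem _, C.torus_mem_borel _]
  rw [hn _ (by simpa using hu0), hn _ (by simpa using hv)] at h'
  have hinv : ∀ z, C.xGL p z ∈ C.Ucl (C.hR.invRoots (C.hR.sPerm i)) := fun z => by
    refine C.xGL_mem_Ucl ((C.hR.mem_invRoots (s := C.pRoot i)).2 ⟨C.R.simple_pos i, ?_⟩) z
    rw [C.sPerm_pRoot]
    exact (C.R.isNeg_neg_iff hpn).2 (C.R.simple_pos i)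
  have hmv := ChevCore.Acts.moves C (C.acts_nS i)
  obtain ⟨-, -, huniq⟩ := C.normalForm_unique
    (b := C.xGL p (α + u⁻¹) * T (-u⁻¹)) (b' := C.xGL p v⁻¹ * T (-v⁻¹))
    (n := C.nS i) (n' := C.nS i) (u := C.xGL p u⁻¹) (u' := C.xGL p (v⁻¹ + α))
    (mul_mem (C.pos_mem_borel (C.R.simple_pos i) _) (hT _))
    (mul_mem (C.pos_mem_borel (C.R.simple_pos i) _) (hT _))
    (C.nS_mem_monomial i) (C.nS_mem_monomial i) hmv hmv (hinv _) (hinv _)
    (by rw [C.xGL_add p α u⁻¹, C.xGL_add p v⁻¹ α]; simpa [mul_assoc] using h')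
  obtain ⟨hbb, huu⟩ := huniq rfl
  have h1 : u⁻¹ = v⁻¹ + α := C.xGL_injective hpn huu
  have hTd : ∀ z : F, T z ∈ D.diagonalSubgroup F := fun z => by
    simp only [T]
    split_ifs
    exacts [one_mem _, by rw [C.diagonalSubgroup_eq]; exact ⟨_, rfl⟩]
  have h2 : α + u⁻¹ = v⁻¹ := by
    have h3 : (C.xGL p v⁻¹)⁻¹ * C.xGL p (α + u⁻¹) = T (-v⁻¹) * (T (-u⁻¹))⁻¹ := by
      rw [eq_mul_inv_iff_mul_eq, mul_assoc, hbb, inv_mul_cancel_left]
    have h4 := (Subgroup.eq_bot_iff_forall _).1 C.posUnipotent_inf_diagonal _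
      (Subgroup.mem_inf.2 ⟨mul_mem (inv_mem (C.xGL_mem_posUnipotent (C.R.simple_pos i) _))
        (C.xGL_mem_posUnipotent (C.R.simple_pos i) _), h3 ▸ mul_mem (hTd _) (inv_mem (hTd _))⟩)
    exact (C.xGL_injective hpn (inv_mul_eq_one.1 h4)).symm
  have hα0 : α = 0 := by
    have h22 : (2 : F) * α = 0 := by linear_combination h2 - h1
    rcases mul_eq_zero.1 h22 with h2z | h
    · have hTeq : T (-u⁻¹) = T (-v⁻¹) := by
        rw [h2] at hbb
        exact mul_left_cancel hbb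
      have h5 := congrArg (fun g : GL D.Idx F =>
        (g : Matrix D.Idx D.Idx F) (Sum.inr (C.pRoot i)) (Sum.inr (C.pRoot i))) hTeq
      simp only [T, dif_neg (show -u⁻¹ ≠ 0 by simpa using hu0),
        dif_neg (show -v⁻¹ ≠ 0 by simpa using hv), C.R.coe_torusSingle, Matrix.diagonal_apply_eq,
        Sum.elim_inr, ChevCore.pRoot, C.hR.cartan_self i, Units.val_mk0] at h5
      rw [zpow_two, zpow_two] at h5
      have h6 : α * α = 0 := by
        linear_combination -(u⁻¹ - v⁻¹ + α) * h1 + h5 + v⁻¹ * (v⁻¹ - u⁻¹) * h2z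
      exact mul_self_eq_zero.1 h6
    · exact h
  have h7 : a = -b⁻¹ := by linear_combination hα0 + 0 * hα
  rw [h7, inv_neg, inv_inv, neg_neg]

theorem commute_of_simple_ne {i j : Fin D.rank} (h : i ≠ j) (t u : F) :
    Commute (C.xGL (D.simple i.val) t) (C.xGL (D.neg (D.simple j.val)) u) := by
  have hi := C.R.simple_lt i
  have hj := C.R.neg_lt _ (C.R.simple_lt j)
  have h1 : D.neg (D.simple j.val) ≠ D.simple i.val := fun e =>
    C.R.not_pos_and_neg (C.R.simple_pos i) (e ▸ (C.R.isNeg_neg_iff (C.R.simple_lt j)).2 (C.R.simple_pos j))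
  have h2 : D.neg (D.simple j.val) ≠ D.neg (D.simple i.val) := fun e => by
    have h3 := congrArg D.neg e
    rw [C.R.neg_neg _ (C.R.simple_lt j), C.R.neg_neg _ (C.R.simple_lt i)] at h3
    have h5 : (C.R.α (D.simple j.val)) j = (C.R.α (D.simple i.val)) j :=
      congrArg (fun r => C.R.α r j) h3
    rw [C.R.α_simple, C.R.α_simple, Pi.single_eq_same, Pi.single_eq_of_ne (Ne.symm h)] at h5
    exact one_ne_zero h5
  have hW : C.wordGL (D.commWord F (D.simple i.val) (D.neg (D.simple j.val)) t u) = 1 := by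
    have he : D.commTerms (D.simple i.val) (D.neg (D.simple j.val)) = [] := by
      refine List.eq_nil_iff_forall_not_mem.2 fun c hc => ?_
      obtain ⟨hk, ha, hb, hab⟩ := C.R.commTerms_spec hc
      rw [C.R.α_neg _ (C.R.simple_lt j), C.R.α_simple, C.R.α_simple] at hab
      have ei := congrFun hab i
      have ej := congrFun hab j
      simp [h, Ne.symm h] at ei ej
      rcases C.R.sign c.1 hk with hs | hs
      · have := hs j
        simp only [Pi.zero_apply] at this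
        omega
      · have := hs i
        simp only [Pi.zero_apply] at this
        omega
    simp [ChevalleyDatum.commWord, he, C.wordGL_nil]
  have h3 := C.xGL_comm hi hj h1 h2 t u
  rw [hW, mul_one] at h3
  exact h3.symm

theorem not_commute_simple_neg (i : Fin D.rank) {t u : F} (ht : t ≠ 0) (hu : u ≠ 0) :
    ¬ Commute (C.xGL (D.simple i.val) t) (C.xGL (D.neg (D.simple i.val)) u) := fun h => by
  set p := D.simple i.val
  have hn : C.nGL p (-u⁻¹) = C.xGL p (-u⁻¹) * C.xGL (D.neg p) u * C.xGL p (-u⁻¹) := by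
    rw [C.xGL_neg_eq p hu, ← C.xGL_inv]
    group
  obtain ⟨v, hv⟩ := nGL_conj_simple C i (c := -u⁻¹) (by simpa using hu) t
  have h1 : ∀ z, Commute (C.xGL p z) (C.xGL p t) := fun z => by
    show _ * _ = _ * _
    rw [← C.xGL_add, ← C.xGL_add, add_comm]
  have h2 : Commute (C.nGL p (-u⁻¹)) (C.xGL p t) := by
    rw [hn]; exact ((h1 _).mul_left h.symm).mul_left (h1 _)
  rw [h2.eq, mul_inv_cancel_right] at hv
  exact C.R.neg_ne p (C.R.simple_lt i) (C.root_eq_of_xGL_eq (C.R.simple_lt i) ht hv).symm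

end CfsgLib.ChevAut
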