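import Cfsg.Agent.Lib.ChevAut.Scalars
import Cfsg.Agent.Lib.ChevStr.GoodTables
import Cfsg.Prelude.Def_ChevAutomorphisms

/-!
The permutation of the nodes attached to an automorphism is a symmetry of the Dynkin diagram, and
the field automorphisms of the nodes are powers of one of them as prescribed by `graphExp`.
-/

set_option autoImplicit false

namespace CfsgLib.ChevAut

open Cfsg.Lie CfsgLib.ChevStr
open scoped MatrixGroups

variable {D : ChevalleyDatum}

/-- `(s_i s_k) ^ m` fixes every fundamental root, computed on the reflection table. -/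
def powFix (D : ChevalleyDatum) (i k m : ℕ) : Bool :=
  (List.range D.rank).all fun j =>
    ((fun s => D.reflectRoot i (D.reflectRoot k s))^[m] (D.simple j)) == D.simple j

/-- The numbers of bonds are read off the orders of the products of two reflections. -/
def bondCheck (D : ChevalleyDatum) : Bool :=
  (List.range D.rank).all fun i => (List.range D.rank).all fun k => i == k ||
    ((D.bonds i k == 0 || D.bonds i k == 1 || D.bonds i k == 2 || D.bonds i k == 3) &&
      (powFix D i k 2 == (D.bonds i k == 0)) && (powFix D i k 3 == (D.bonds i k == 1)) &&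
      (powFix D i k 4 == (D.bonds i k == 0 || D.bonds i k == 2)) &&
      (!decide (D.cartan i (D.simple k) < 0) || !(D.bonds i k == 0)))

/-- The exponent of a graph automorphism on node `i ↦ j` is the characteristic. -/
def gx (D : ChevalleyDatum) (i j : ℕ) : Bool :=
  D.isLong (D.simple j) && !D.isLong (D.simple i)

/-- Facts on a diagram used to classify automorphisms. -/
structure Diagram (D : ChevalleyDatum) : Prop where
  bond : bondCheck D = true
  sides : ∀ i k : Fin D.rank, i ≠ k → D.bonds i.val k.val ≠ 0 →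
    D.cartan i.val (D.simple k.val) = -1 ∨ D.cartan k.val (D.simple i.val) = -1
  pair : ∀ π : Equiv.Perm (Fin D.rank), D.IsDiagramSymmetry π → ∀ i k : Fin D.rank, i ≠ k →
    D.bonds i.val k.val ≠ 0 → D.cartan i.val (D.simple k.val) = -1 →
      (D.cartan (π i).val (D.simple (π k).val) = -1 ∧ gx D i.val (π i).val = gx D k.val (π k).val) ∨
        ((D.cartan (π i).val (D.simple (π k).val) = -2 ∨ D.cartan (π i).val (D.simple (π k).val) = -3) ∧
          gx D i.val (π i).val = false ∧ gx D k.val (π k).val = true)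
  root : ∀ π : Equiv.Perm (Fin D.rank), D.IsDiagramSymmetry π → ∃ i, gx D i.val (π i).val = false

theorem bond_spec (h : bondCheck D = true) {i k : Fin D.rank} (hik : i ≠ k) :
    (D.bonds i.val k.val = 0 ∨ D.bonds i.val k.val = 1 ∨ D.bonds i.val k.val = 2 ∨
      D.bonds i.val k.val = 3) ∧
    (powFix D i k 2 = true ↔ D.bonds i.val k.val = 0) ∧
    (powFix D i k 3 = true ↔ D.bonds i.val k.val = 1) ∧
    (powFix D i k 4 = true ↔ (D.bonds i.val k.val = 0 ∨ D.bonds i.val k.val = 2)) ∧
    (D.cartan i.val (D.simple k.val) < 0 → D.bonds i.val k.val ≠ 0) := by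
  simp only [bondCheck, List.all_eq_true, List.mem_range, Bool.or_eq_true, Bool.and_eq_true,
    beq_iff_eq] at h
  obtain ⟨⟨⟨⟨h1, h2⟩, h3⟩, h4⟩, h5⟩ :=
    (h i.val i.isLt k.val k.isLt).resolve_left (fun e => hik (Fin.ext e))
  refine ⟨?_, by simp [h2], by simp [h3], by simp [h4], fun hlt => ?_⟩
  · rcases h1 with ((h | h) | h) | h <;> simp [h]
  · simpa [hlt] using h5

variable {F : Type*} [Field F] (C : ChevCore D F)

theorem iterate_eq_pow (i k : Fin D.rank) (s : Fin D.nroots) : ∀ m : ℕ,
    (fun s => D.reflectRoot i.val (D.reflectRoot k.val s))^[m] s.val =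
      ((((C.hR.sPerm i * C.hR.sPerm k) ^ m) s : Fin D.nroots) : ℕ)
  | 0 => by simp
  | m + 1 => by
    rw [Function.iterate_succ_apply', iterate_eq_pow i k s m, pow_succ', Equiv.Perm.mul_apply,
      Equiv.Perm.mul_apply, C.hR.sPerm_val, C.hR.sPerm_val]

theorem powFix_iff (i k : Fin D.rank) (m : ℕ) :
    powFix D i k m = true ↔ (C.hR.sPerm i * C.hR.sPerm k) ^ m = 1 := by
  simp only [powFix, List.all_eq_true, List.mem_range, beq_iff_eq]
  constructor
  · intro h
    have hW : (C.hR.sPerm i * C.hR.sPerm k) ^ m ∈ C.hR.weyl :=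
      pow_mem (mul_mem (C.hR.sPerm_mem i) (C.hR.sPerm_mem k)) m
    refine C.hR.eq_one_of_invSet_eq_empty hW ?_
    by_contra hne
    obtain ⟨j, -, hj⟩ := C.hR.weylSub_exists_neg (J := Finset.univ)
      (by rw [C.hR.weylSub_univ]; exact hW) hne
    have h1 := h j.val j.isLt
    rw [show D.simple j.val = (C.pRoot j).val from rfl, iterate_eq_pow C i k (C.pRoot j) m] at h1
    change D.IsNegRoot ((((C.hR.sPerm i * C.hR.sPerm k) ^ m) (C.pRoot j) : Fin D.nroots) : ℕ) at hj
    rw [h1] at hj
    exact C.R.not_pos_and_neg (C.R.simple_pos j) hj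
  · intro h j hj
    rw [show D.simple j = (C.pRoot ⟨j, hj⟩).val from rfl, iterate_eq_pow C i k _ m, h]
    rfl

theorem moves_pow {n : GL D.Idx F} {w : Equiv.Perm (Fin D.nroots)} (h : C.Moves n w) :
    ∀ m : ℕ, C.Moves (n ^ m) (w ^ m)
  | 0 => by
    rw [pow_zero, pow_zero]
    exact ChevCore.Acts.moves C C.acts_one
  | m + 1 => by
    rw [pow_succ, pow_succ]
    exact ChevCore.Moves.mul C (moves_pow h m) h

variable {C}

namespace Std

variable {φ : ↥(D.group F) ≃* ↥(D.group F)} (S : Std C φ)

theorem moves_app_nS [Finite F] (i : Fin D.rank) :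
    C.Moves (app φ (C.nS i)) (C.hR.sPerm (S.π i)) := by
  have hne := S.f_ne_zero i (one_ne_zero (α := F))
  have e : C.nGL (D.simple (S.π i).val) (S.f i 1) =
      C.R.torusSingle (S.π i) (Units.mk0 _ hne) * C.nS (S.π i) := C.nGL_simple _ (Units.mk0 _ hne)
  rw [ChevCore.nS, S.app_nGL i one_ne_zero, e]
  have := ChevCore.Moves.mul C (C.moves_torus (Pi.mulSingle (S.π i) (Units.mk0 _ hne)))
    (ChevCore.Acts.moves C (C.acts_nS (S.π i)))
  rwa [one_mul] at this

theorem pow_transport [Finite F] (i k : Fin D.rank) (m : ℕ)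
    (h : (C.hR.sPerm i * C.hR.sPerm k) ^ m = 1) :
    (C.hR.sPerm (S.π i) * C.hR.sPerm (S.π k)) ^ m = 1 := by
  have hnG : ∀ j, C.nS j ∈ D.group F := fun j => C.nGL_mem_group _ _
  have hmem : (C.nS i * C.nS k) ^ m ∈ D.monomialSubgroup F :=
    pow_mem (mul_mem (C.nS_mem_monomial i) (C.nS_mem_monomial k)) m
  have hmv := moves_pow C (ChevCore.Moves.mul C (ChevCore.Acts.moves C (C.acts_nS i))
    (ChevCore.Acts.moves C (C.acts_nS k))) m
  rw [h] at hmv
  have hd := C.mem_diagonal_of_moves_one hmem hmv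
  rw [C.diagonalSubgroup_eq] at hd
  obtain ⟨c, hc⟩ := hd
  obtain ⟨c', hc'⟩ := S.torus c
  rw [hc, app_pow φ (mul_mem (hnG i) (hnG k)), app_mul φ (hnG i) (hnG k)] at hc'
  have h1 := moves_pow C (ChevCore.Moves.mul C (S.moves_app_nS i) (S.moves_app_nS k)) m
  rw [hc'] at h1
  exact ChevCore.Moves.unique C h1 (C.moves_torus c')

/-- The inverse automorphism in the same form. -/
theorem pow_transport_symm [Fintype F] (hφ : Normal φ) (i k : Fin D.rank) (m : ℕ)
    (h : (C.hR.sPerm (S.π i) * C.hR.sPerm (S.π k)) ^ m = 1) :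
    (C.hR.sPerm i * C.hR.sPerm k) ^ m = 1 := by
  obtain ⟨T⟩ := nonempty_std C (hφ.symm C)
  have hπ : ∀ j, T.π (S.π j) = j := fun j => by
    have h1 := (hφ.symm C).mem_bigCell C (C.nGL_mem_group _ _) (T.cell (S.π j)) (S.cell j)
    have hj : C.nS j ∈ D.group F := C.nGL_mem_group _ _
    rw [app_symm φ hj] at h1
    exact (cell_eq C h1).symm
  have h1 := T.pow_transport (S.π i) (S.π k) m h
  rwa [hπ, hπ] at h1

theorem isDiagramSymmetry [Fintype F] (hφ : Normal φ) (hb : bondCheck D = true) :
    D.IsDiagramSymmetry S.π := by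
  intro i k hik
  have hne : S.π i ≠ S.π k := fun e => hik (S.π.injective e)
  obtain ⟨b1, p2, p3, p4, -⟩ := bond_spec hb hik
  obtain ⟨b1', q2, q3, q4, -⟩ := bond_spec hb hne
  have key : ∀ m, powFix D (S.π i) (S.π k) m = true ↔ powFix D i k m = true := fun m => by
    rw [powFix_iff C, powFix_iff C]
    exact ⟨S.pow_transport_symm hφ i k m, S.pow_transport i k m⟩
  have k2 := q2.symm.trans ((key 2).trans p2)
  have k3 := q3.symm.trans ((key 3).trans p3)
  have k4 := q4.symm.trans ((key 4).trans p4)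
  rcases b1 with h | h | h | h <;> rcases b1' with h' | h' | h' | h' <;>
    simp_all

/-- The field automorphism of a node is the prescribed power of `σ₀`. -/
def Good [Finite F] (σ₀ : F ≃+* F) (k : Fin D.rank) : Prop :=
  ∀ t, S.σ k t = σ₀ t ^ D.graphExp (ringChar F) k.val (S.π k).val

theorem good_step [Finite F] (hD : Diagram D) (hsym : D.IsDiagramSymmetry S.π)
    (h3 : ∀ i k : Fin D.rank, D.cartan i.val (D.simple k.val) = -1 →
      D.cartan (S.π i).val (D.simple (S.π k).val) = -3 → (3 : F) = 0)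
    (σ₀ : F ≃+* F) {i k : Fin D.rank} (hik : i ≠ k) (hb : D.bonds i.val k.val ≠ 0)
    (hA : D.cartan i.val (D.simple k.val) = -1) :
    S.Good σ₀ i ↔ S.Good σ₀ k := by
  have hrel := fun c => S.σ_rel i k c
  rcases hD.pair S.π hsym i k hik hb hA with ⟨hA', hg⟩ | ⟨hA', hgi, hgk⟩
  · have heq : ∀ t, S.σ k t = S.σ i t := fun t => by
      by_cases ht : t = 0
      · simp [ht]
      · have h1 := hrel (Units.mk0 t ht)
        rw [hA, hA', zpow_neg_one, zpow_neg_one, inv_inj] at h1
        exact congrArg Units.val h1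
    have he : D.graphExp (ringChar F) i.val (S.π i).val = D.graphExp (ringChar F) k.val (S.π k).val := by
      simp only [gx] at hg
      simp only [ChevalleyDatum.graphExp, hg]
    simp only [Good, heq, he]
  · obtain ⟨b, hb', hcb⟩ : ∃ b : ℕ, (b = 2 ∨ b = 3) ∧
        D.cartan (S.π i).val (D.simple (S.π k).val) = -(b : ℤ) := by
      rcases hA' with h | h
      exacts [⟨2, Or.inl rfl, h⟩, ⟨3, Or.inr rfl, h⟩]
    have heq : ∀ t, S.σ k t = S.σ i t ^ b := fun t => by
      by_cases ht : t = 0
      · rcases hb' with rfl | rfl <;> simp [ht]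
      · have h1 := hrel (Units.mk0 t ht)
        rw [hA, hcb, zpow_neg_one, zpow_neg, zpow_natCast, inv_inj] at h1
        exact congrArg Units.val h1
    have hchar : ringChar F = b := by
      rcases hb' with rfl | rfl
      · refine CharP.ringChar_of_prime_eq_zero Nat.prime_two ?_
        have h2 := heq 2
        rw [map_ofNat, map_ofNat] at h2
        have : (2 : F) = 0 := by linear_combination -h2
        exact_mod_cast this
      · refine CharP.ringChar_of_prime_eq_zero Nat.prime_three ?_
        have := h3 i k hA (by simpa using hcb)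
        exact_mod_cast this
    have : Fact b.Prime := ⟨by rcases hb' with rfl | rfl; exacts [Nat.prime_two, Nat.prime_three]⟩
    have : CharP F b := hchar ▸ ringChar.charP F
    simp only [gx] at hgi hgk
    have hei : D.graphExp (ringChar F) i.val (S.π i).val = 1 := by
      simp [ChevalleyDatum.graphExp, hgi]
    have hek : D.graphExp (ringChar F) k.val (S.π k).val = b := by
      simp only [ChevalleyDatum.graphExp, hgk, hchar]; rfl
    simp only [Good, hei, hek, pow_one, heq]
    refine ⟨fun h t => by rw [h t], fun h t => ?_⟩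
    exact frobenius_inj F b (by simpa [frobenius_def] using h t)

theorem exists_good [Finite F] (hD : Diagram D) (hconn : DiagramConnected D)
    (hsym : D.IsDiagramSymmetry S.π)
    (h3 : ∀ i k : Fin D.rank, D.cartan i.val (D.simple k.val) = -1 →
      D.cartan (S.π i).val (D.simple (S.π k).val) = -3 → (3 : F) = 0) :
    ∃ σ₀ : F ≃+* F, ∀ k, S.Good σ₀ k := by
  classical
  obtain ⟨r0, hr0⟩ := hD.root S.π hsym
  refine ⟨S.σ r0, ?_⟩
  set J := Finset.univ.filter fun k => S.Good (S.σ r0) k with hJ
  suffices J = Finset.univ by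
    intro k
    have := this ▸ Finset.mem_univ k
    simpa [hJ] using this
  have hr0J : r0 ∈ J := by
    refine Finset.mem_filter.2 ⟨Finset.mem_univ _, fun t => ?_⟩
    simp only [gx] at hr0
    simp [ChevalleyDatum.graphExp, hr0]
  by_contra hne
  obtain ⟨j, hj, k, hk, hjk⟩ := hconn J ⟨r0, hr0J⟩ hne
  have hjk' : j ≠ k := fun e => hk (e ▸ hj)
  have hb := (bond_spec hD.bond hjk').2.2.2.2 hjk
  have hbk : D.bonds k.val j.val ≠ 0 := by rwa [ChevalleyDatum.bonds, mul_comm]
  refine hk (Finset.mem_filter.2 ⟨Finset.mem_univ _, ?_⟩)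
  have hjg := (Finset.mem_filter.1 hj).2
  rcases hD.sides j k hjk' hb with hA | hA
  · exact (S.good_step hD hsym h3 _ hjk' hb hA).1 hjg
  · exact (S.good_step hD hsym h3 _ hjk'.symm hbk hA).2 hjg

end Std

end CfsgLib.ChevAut
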