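import Cfsg.Agent.Lib.ChevAut.Tables
import Cfsg.Agent.Lib.ChevField.Fixed
import Cfsg.Agent.Lib.KnownSimple.CharDiag

/-!
Steinberg's theorem: an automorphism of a Chevalley group over a finite field is the product of an
inner, a diagonal, a graph and a field automorphism.
-/

set_option autoImplicit false

namespace CfsgLib.ChevAut

open Cfsg.Lie CfsgLib.ChevStr CfsgLib.KnownSimple
open scoped MatrixGroups

variable {D : ChevalleyDatum} {F : Type*} [Field F]

/-! ### Field automorphisms -/

/-- The automorphism of the group induced by an automorphism of the field. -/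
noncomputable def fieldAut (σ : F ≃+* F) : ↥(D.group F) ≃* ↥(D.group F) where
  toFun g := ⟨ChevField.mapGL σ.toRingHom g.1,
    ChevField.group_map_le σ.toRingHom ⟨g.1, g.2, rfl⟩⟩
  invFun g := ⟨ChevField.mapGL σ.symm.toRingHom g.1,
    ChevField.group_map_le σ.symm.toRingHom ⟨g.1, g.2, rfl⟩⟩
  left_inv g := Subtype.ext (Units.ext (Matrix.ext fun a b => σ.symm_apply_apply _))
  right_inv g := Subtype.ext (Units.ext (Matrix.ext fun a b => σ.apply_symm_apply _))
  map_mul' g h := Subtype.ext (map_mul (ChevField.mapGL σ.toRingHom) g.1 h.1)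

theorem fieldAut_x (σ : F ≃+* F) (g : ↥(D.group F)) (r : ℕ) (t : F)
    (h : ((g : GL D.Idx F) : Matrix D.Idx D.Idx F) = D.x F r t) :
    ((fieldAut σ g : GL D.Idx F) : Matrix D.Idx D.Idx F) = D.x F r (σ t) := by
  show ((g : GL D.Idx F) : Matrix D.Idx D.Idx F).map σ.toRingHom = _
  rw [h, ChevField.x_map]
  rfl

theorem isFieldAut_fieldAut (σ : F ≃+* F) : D.IsFieldAut (fieldAut (D := D) σ) :=
  ⟨σ, fun g r t _ h => fieldAut_x σ g r t h⟩

/-! ### Diagonal automorphisms -/

/-- The diagonal matrix of a character as a unit. -/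
noncomputable def charGL (χ : ℕ → Fˣ) : GL D.Idx F :=
  ⟨D.charDiag F χ, D.charDiag F (fun r => (χ r)⁻¹),
    by
      rw [ChevalleyDatum.charDiag, ChevalleyDatum.charDiag, Matrix.diagonal_mul_diagonal,
        ← Matrix.diagonal_one]
      congr 1; funext x; rcases x with j | s <;> simp,
    by
      rw [ChevalleyDatum.charDiag, ChevalleyDatum.charDiag, Matrix.diagonal_mul_diagonal,
        ← Matrix.diagonal_one]
      congr 1; funext x; rcases x with j | s <;> simp⟩

theorem isRootCharacter_inv {χ : ℕ → Fˣ} (hχ : D.IsRootCharacter χ) :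
    D.IsRootCharacter fun r => (χ r)⁻¹ :=
  ⟨fun r hr => by simp only [hχ.1 r hr], fun r s k hr hs h => by simp only [hχ.2 r s k hr hs h, mul_inv]⟩

theorem charGL_conj (C : ChevCore D F) (htab : chainTableOK D = true) {χ : ℕ → Fˣ}
    (hχ : D.IsRootCharacter χ) (r : ℕ) (hr : r < D.nroots) (t : F) :
    charGL χ * C.xGL r t * (charGL χ)⁻¹ = C.xGL r ((χ r : F) * t) :=
  Units.ext (charDiag_conj_x htab hχ hr t)

theorem charGL_conj_mem (C : ChevCore D F) (htab : chainTableOK D = true) {χ : ℕ → Fˣ}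
    (hχ : D.IsRootCharacter χ) {g : GL D.Idx F} (hg : g ∈ D.group F) :
    charGL χ * g * (charGL χ)⁻¹ ∈ D.group F := by
  have hle : D.group F ≤ (D.group F).comap (MulAut.conj (charGL χ)).toMonoidHom :=
    C.group_le fun r t hr => by
      show charGL χ * C.xGL r t * (charGL χ)⁻¹ ∈ D.group F
      rw [charGL_conj C htab hχ r hr t]
      exact C.xGL_mem_group _ _
  exact hle hg

theorem charGL_inv (χ : ℕ → Fˣ) : (charGL (D := D) χ)⁻¹ = charGL fun r => (χ r)⁻¹ :=
  Units.ext rfl

/-- The automorphism of the group induced by a character of the root lattice. -/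
noncomputable def diagAut (C : ChevCore D F) (htab : chainTableOK D = true) {χ : ℕ → Fˣ}
    (hχ : D.IsRootCharacter χ) : ↥(D.group F) ≃* ↥(D.group F) where
  toFun g := ⟨charGL χ * g.1 * (charGL χ)⁻¹, charGL_conj_mem C htab hχ g.2⟩
  invFun g := ⟨(charGL χ)⁻¹ * g.1 * charGL χ, by
    have := charGL_conj_mem C htab (isRootCharacter_inv hχ) g.2
    rw [← charGL_inv, inv_inv] at this
    exact this⟩
  left_inv g := Subtype.ext (by group)
  right_inv g := Subtype.ext (by group)
  map_mul' g h := Subtype.ext (by simp [mul_assoc])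

theorem isDiagonalAut_diagAut (C : ChevCore D F) (htab : chainTableOK D = true) {χ : ℕ → Fˣ}
    (hχ : D.IsRootCharacter χ) : D.IsDiagonalAut (diagAut C htab hχ) :=
  ⟨χ, hχ, fun _ => rfl⟩

/-- The character with prescribed values on the fundamental roots. -/
noncomputable def leadChar (C : ChevCore D F) (a : Fin D.rank → Fˣ) (r : ℕ) : Fˣ :=
  ∏ j : Fin D.rank, a j ^ C.R.α r j

theorem isRootCharacter_leadChar (C : ChevCore D F) (a : Fin D.rank → Fˣ) :
    D.IsRootCharacter (leadChar C a) := by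
  refine ⟨fun r hr => ?_, fun r s k hr hs h => ?_⟩
  · simp [leadChar, C.R.α_neg r hr, Finset.prod_inv_distrib]
  · obtain ⟨-, h2⟩ := C.R.chainRoot_spec le_rfl h
    rw [leadChar, leadChar, leadChar, ← Finset.prod_mul_distrib]
    refine Finset.prod_congr rfl fun j _ => ?_
    rw [← zpow_add, h2]
    simp

theorem leadChar_simple (C : ChevCore D F) (a : Fin D.rank → Fˣ) (i : Fin D.rank) :
    leadChar C a (D.simple i.val) = a i := by
  rw [leadChar, Fintype.prod_eq_single i fun j hj => ?_]
  · simp [C.R.α_simple]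
  · simp [C.R.α_simple, hj]

/-! ### The decomposition -/

theorem exists_decomposition [Fintype F] (C : ChevCore D F) (hD : Diagram D)
    (hconn : DiagramConnected D) (htab : chainTableOK D = true)
    (h3 : ∀ (φ : ↥(D.group F) ≃* ↥(D.group F)) (S : Std C φ) (i k : Fin D.rank),
      D.cartan i.val (D.simple k.val) = -1 →
      D.cartan (S.π i).val (D.simple (S.π k).val) = -3 → (3 : F) = 0)
    (θ : ↥(D.group F) ≃* ↥(D.group F)) :
    ∃ (x : ↥(D.group F)) (d g f : ↥(D.group F) ≃* ↥(D.group F)),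
      D.IsDiagonalAut d ∧ D.IsGraphAut g ∧ D.IsFieldAut f ∧
        ∀ y : ↥(D.group F), θ y = x * d (g (f y)) * x⁻¹ := by
  obtain ⟨x, φ, hφ, hθ⟩ := exists_normal C θ
  obtain ⟨S⟩ := nonempty_std C hφ
  have hsym := S.isDiagramSymmetry hφ hD.bond
  obtain ⟨σ₀, hσ⟩ := S.exists_good hD hconn hsym (h3 φ S)
  have hχ := isRootCharacter_leadChar C fun j => S.lead (S.π.symm j)
  set d := diagAut C htab hχ with hd
  set g := ((fieldAut σ₀).symm.trans φ).trans d.symm with hg
  refine ⟨x, d, g, fieldAut σ₀, isDiagonalAut_diagAut C htab hχ, ⟨S.π, hsym, ?_⟩,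
    isFieldAut_fieldAut σ₀, fun y => ?_⟩
  swap
  · rw [hθ y, hg, MulEquiv.trans_apply, MulEquiv.trans_apply, MulEquiv.symm_apply_apply,
      MulEquiv.apply_symm_apply]
  intro y i t
  set e := D.graphExp (ringChar F) i.val (S.π i).val with he
  have key : ∀ (r r' : ℕ), r < D.nroots → r' < D.nroots →
      app φ (C.xGL r (σ₀.symm t)) = C.xGL r' (((leadChar C (fun j => S.lead (S.π.symm j)) r' : Fˣ) : F) * t ^ e) →
      ((y : GL D.Idx F) : Matrix D.Idx D.Idx F) = D.x F r t →
        ((g y : GL D.Idx F) : Matrix D.Idx D.Idx F) = D.x F r' (t ^ e) := by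
    intro r r' hr hr' happ hy
    set y' : ↥(D.group F) := ⟨C.xGL r' (t ^ e), C.xGL_mem_group _ _⟩ with hy'
    suffices g y = y' by rw [this]; exact C.coe_xGL _ _
    have h1 : (fieldAut σ₀).symm y = ⟨C.xGL r (σ₀.symm t), C.xGL_mem_group _ _⟩ := by
      rw [MulEquiv.symm_apply_eq]
      refine Subtype.ext (Units.ext ?_)
      rw [fieldAut_x σ₀ ⟨_, C.xGL_mem_group r (σ₀.symm t)⟩ r _ (C.coe_xGL _ _),
        RingEquiv.apply_symm_apply]
      exact hy
    rw [hg, MulEquiv.trans_apply, MulEquiv.trans_apply, h1, MulEquiv.symm_apply_eq]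
    refine Subtype.ext ?_
    rw [← app_coe φ, happ]
    exact (charGL_conj C htab hχ r' hr' (t ^ e)).symm
  have hneg := C.R.neg_lt _ (C.R.simple_lt i)
  have hneg' := C.R.neg_lt _ (C.R.simple_lt (S.π i))
  constructor <;> intro hy
  · refine key _ _ (C.R.simple_lt i) (C.R.simple_lt (S.π i)) ?_ hy
    rw [S.pos, S.f_eq, hσ i, RingEquiv.apply_symm_apply, leadChar_simple, Equiv.symm_apply_apply]
  · refine key _ _ hneg hneg' ?_ hy
    rw [S.neg, S.g_formula, hσ i, RingEquiv.apply_symm_apply, hχ.1 _ (C.R.simple_lt (S.π i)),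
      leadChar_simple, Equiv.symm_apply_apply]

theorem ne_neg_three_B2 : ∀ a b : Fin chevB2.rank,
    chevB2.cartan a.val (chevB2.simple b.val) ≠ -3 := by decide +kernel

theorem ne_neg_three_D4 : ∀ a b : Fin chevD4.rank,
    chevD4.cartan a.val (chevD4.simple b.val) ≠ -3 := by decide +kernel

theorem ne_neg_three_F4 : ∀ a b : Fin chevF4.rank,
    chevF4.cartan a.val (chevF4.simple b.val) ≠ -3 := by decide +kernel

theorem ne_neg_three_E6 : ∀ a b : Fin chevE6.rank,
    chevE6.cartan a.val (chevE6.simple b.val) ≠ -3 := by decide +kernel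

theorem ne_neg_three_E7 : ∀ a b : Fin chevE7.rank,
    chevE7.cartan a.val (chevE7.simple b.val) ≠ -3 := by decide +kernel

theorem ne_neg_three_E8 : ∀ a b : Fin chevE8.rank,
    chevE8.cartan a.val (chevE8.simple b.val) ≠ -3 := by decide +kernel

set_option maxRecDepth 4000 in
set_option maxHeartbeats 1000000 in
theorem steinberg [Finite F] (D : ChevalleyDatum)
    (hD : D ∈ [chevG2, chevB2, chevD4, chevF4, chevE6, chevE7, chevE8])
    (θ : ↥(D.group F) ≃* ↥(D.group F)) :
    ∃ (x : ↥(D.group F)) (d g f : ↥(D.group F) ≃* ↥(D.group F)),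
      D.IsDiagonalAut d ∧ D.IsGraphAut g ∧ D.IsFieldAut f ∧
        ∀ y : ↥(D.group F), θ y = x * d (g (f y)) * x⁻¹ := by
  have : Fintype F := Fintype.ofFinite F
  have htab := chainTableOK_of_mem D hD
  simp only [List.mem_cons, List.not_mem_nil, or_false] at hD
  rcases hD with rfl | rfl | rfl | rfl | rfl | rfl | rfl
  · refine exists_decomposition (coreG2 F) diagramG2 diagramConnectedG2 htab
      (fun φ S i k h1 h2 => ?_) θ
    have ht : ∀ i k : Fin chevG2.rank, chevG2.cartan i.val (chevG2.simple k.val) = -1 →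
        i.val = 1 ∧ k.val = 0 := by decide +kernel
    have ht' : ∀ i k : Fin chevG2.rank, chevG2.cartan i.val (chevG2.simple k.val) = -3 →
        i.val = 0 ∧ k.val = 1 := by decide +kernel
    obtain ⟨hi, hk⟩ := ht i k h1
    obtain ⟨hi', hk'⟩ := ht' _ _ h2
    exact three_eq_zero_G2 S k i hk hi (Fin.ext (by omega)) (Fin.ext (by omega))
  · exact exists_decomposition (coreB2 F) diagramB2 diagramConnectedB2 htab
      (fun φ S i k _ h => absurd h (ne_neg_three_B2 _ _)) θ
  · exact exists_decomposition (coreD4 F) diagramD4 diagramConnectedD4 htab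
      (fun φ S i k _ h => absurd h (ne_neg_three_D4 _ _)) θ
  · exact exists_decomposition (coreF4 F) diagramF4 diagramConnectedF4 htab
      (fun φ S i k _ h => absurd h (ne_neg_three_F4 _ _)) θ
  · exact exists_decomposition (coreE6 F) diagramE6 diagramConnectedE6 htab
      (fun φ S i k _ h => absurd h (ne_neg_three_E6 _ _)) θ
  · exact exists_decomposition (coreE7 F) diagramE7 diagramConnectedE7 htab
      (fun φ S i k _ h => absurd h (ne_neg_three_E7 _ _)) θ
  · exact exists_decomposition (coreE8 F) diagramE8 diagramConnectedE8 htab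
      (fun φ S i k _ h => absurd h (ne_neg_three_E8 _ _)) θ

end CfsgLib.ChevAut
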