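import Cfsg.Agent.Lib.ChevAut.Base

/-!
Every automorphism of a Chevalley group over a finite field is, up to an inner automorphism, one
preserving `U` and `V`; such an automorphism permutes the root subgroups of the fundamental roots
and of their negatives.
-/

set_option autoImplicit false

namespace CfsgLib.ChevAut

open Cfsg.Lie CfsgLib.ChevStr
open scoped MatrixGroups

variable {D : ChevalleyDatum} {F : Type*} [Field F] (C : ChevCore D F)

open Classical in
/-- An automorphism of the group as a map of the ambient general linear group. -/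
noncomputable def app (φ : ↥(D.group F) ≃* ↥(D.group F)) (g : GL D.Idx F) : GL D.Idx F :=
  if h : g ∈ D.group F then (φ ⟨g, h⟩ : GL D.Idx F) else 1

section app

variable (φ : ↥(D.group F) ≃* ↥(D.group F))

theorem app_coe (y : ↥(D.group F)) : app φ (y : GL D.Idx F) = φ y := by simp [app, y.2]

theorem app_mem (g : GL D.Idx F) : app φ g ∈ D.group F := by
  rw [app]; split_ifs
  exacts [Subtype.coe_prop _, one_mem _]

theorem app_mul {g h : GL D.Idx F} (hg : g ∈ D.group F) (hh : h ∈ D.group F) :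
    app φ (g * h) = app φ g * app φ h := by
  lift g to ↥(D.group F) using hg
  lift h to ↥(D.group F) using hh
  rw [← Subgroup.coe_mul, app_coe, app_coe, app_coe, map_mul, Subgroup.coe_mul]

theorem app_inv {g : GL D.Idx F} (hg : g ∈ D.group F) : app φ g⁻¹ = (app φ g)⁻¹ := by
  lift g to ↥(D.group F) using hg
  rw [← Subgroup.coe_inv, app_coe, app_coe, map_inv, Subgroup.coe_inv]

theorem app_one : app φ 1 = 1 := by rw [← Subgroup.coe_one (D.group F), app_coe, map_one]

theorem app_symm {g : GL D.Idx F} (hg : g ∈ D.group F) : app φ.symm (app φ g) = g := by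
  lift g to ↥(D.group F) using hg
  rw [app_coe, app_coe, MulEquiv.symm_apply_apply]

theorem app_apply_symm {g : GL D.Idx F} (hg : g ∈ D.group F) : app φ (app φ.symm g) = g := by
  lift g to ↥(D.group F) using hg
  rw [app_coe, app_coe, MulEquiv.apply_symm_apply]

theorem app_inj {g h : GL D.Idx F} (hg : g ∈ D.group F) (hh : h ∈ D.group F)
    (e : app φ g = app φ h) : g = h := by rw [← app_symm φ hg, e, app_symm φ hh]

theorem app_conj {g h : GL D.Idx F} (hg : g ∈ D.group F) (hh : h ∈ D.group F) :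
    app φ (g * h * g⁻¹) = app φ g * app φ h * (app φ g)⁻¹ := by
  rw [app_mul φ (mul_mem hg hh) (inv_mem hg), app_mul φ hg hh, app_inv φ hg]

theorem app_pow {g : GL D.Idx F} (hg : g ∈ D.group F) : ∀ m : ℕ, app φ (g ^ m) = app φ g ^ m
  | 0 => by simp [app_one]
  | m + 1 => by rw [pow_succ, pow_succ, app_mul φ (pow_mem hg m) hg, app_pow hg m]

end app

include C in
theorem simple_injective {i j : Fin D.rank} (h : D.simple i.val = D.simple j.val) : i = j := by
  by_contra hne
  have h1 : (C.R.α (D.simple i.val)) i = (C.R.α (D.simple j.val)) i := by rw [h]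
  rw [C.R.α_simple, C.R.α_simple, Pi.single_eq_same, Pi.single_eq_of_ne hne] at h1
  exact one_ne_zero h1

include C in
theorem pos_le_group : D.posUnipotent F ≤ D.group F :=
  C.posUnipotent_le fun r t _ => C.xGL_mem_group r t

include C in
theorem neg_le_group : D.negUnipotent F ≤ D.group F :=
  C.negUnipotent_le fun r t _ => C.xGL_mem_group r t

/-- The automorphism preserves `U` and `V`. -/
structure Normal (φ : ↥(D.group F) ≃* ↥(D.group F)) : Prop where
  pos : ∀ g ∈ D.posUnipotent F, app φ g ∈ D.posUnipotent F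
  neg : ∀ g ∈ D.negUnipotent F, app φ g ∈ D.negUnipotent F

theorem exists_preimage [Finite F] (φ : ↥(D.group F) ≃* ↥(D.group F)) {S : Subgroup (GL D.Idx F)}
    (hS : S ≤ D.group F) (h : ∀ g ∈ S, app φ g ∈ S) {g : GL D.Idx F} (hg : g ∈ S) :
    ∃ y ∈ S, app φ y = g := by
  obtain ⟨y, hy⟩ := Finite.surjective_of_injective
    (f := fun x : ↥S => (⟨app φ x, h _ x.2⟩ : ↥S))
    (fun a b e => Subtype.ext (app_inj φ (hS a.2) (hS b.2) (congrArg Subtype.val e))) ⟨g, hg⟩
  exact ⟨y, y.2, congrArg Subtype.val hy⟩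

include C in
theorem Normal.symm [Finite F] {φ : ↥(D.group F) ≃* ↥(D.group F)} (h : Normal φ) :
    Normal φ.symm := by
  constructor <;> intro g hg
  · obtain ⟨y, hy, rfl⟩ := exists_preimage φ (pos_le_group C) h.pos hg
    rwa [app_symm φ (pos_le_group C hy)]
  · obtain ⟨y, hy, rfl⟩ := exists_preimage φ (neg_le_group C) h.neg hg
    rwa [app_symm φ (neg_le_group C hy)]

include C in
theorem card_negUnipotent :
    Nat.card (D.negUnipotent F) = Nat.card (D.posUnipotent F) := by
  obtain ⟨L⟩ := nonempty_longest C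
  refine (Nat.card_eq_of_bijective (fun g : ↥(D.posUnipotent F) =>
    (⟨L.n * g * L.n⁻¹, L.conj_pos g g.2⟩ : ↥(D.negUnipotent F))) ⟨fun a b e => ?_, fun g => ?_⟩).symm
  · exact Subtype.ext (mul_left_cancel (mul_right_cancel (congrArg Subtype.val e)))
  · exact ⟨⟨L.n⁻¹ * g * L.n, L.conj_inv_neg g g.2⟩, Subtype.ext (by group)⟩

include C in
/-- Up to an inner automorphism an automorphism preserves `U` and `V`. -/
theorem exists_normal [Fintype F] (θ : ↥(D.group F) ≃* ↥(D.group F)) :
    ∃ (x : ↥(D.group F)) (φ : ↥(D.group F) ≃* ↥(D.group F)),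
      Normal φ ∧ ∀ y, θ y = x * φ y * x⁻¹ := by
  obtain ⟨p, hp⟩ := CharP.exists F
  have : Fact p.Prime := ⟨CharP.char_is_prime F p⟩
  obtain ⟨k, -, hk⟩ := FiniteField.card F p
  have hUG := pos_le_group C
  have hU : IsPGroup p (D.posUnipotent F) := by
    rw [C.posUnipotent_eq]
    refine IsPGroup.of_card (n := (k : ℕ) * Set.ncard {r | D.IsPosRoot r}) ?_
    rw [C.card_Ucl C.R.isClosed_pos, hk, pow_mul]
  set U' := (D.posUnipotent F).subgroupOf (D.group F) with hU'def
  have hU1 : IsPGroup p ((U'.map θ.toMonoidHom).map (D.group F).subtype) :=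
    ((hU.comap_of_injective (D.group F).subtype (D.group F).subtype_injective).map _).map _
  obtain ⟨x₁, hx₁G, hx₁⟩ := CfsgLib.KnownSimple.ChevPSylow.exists_conj_le_posUnipotent C p
    (Subgroup.map_subtype_le _) hU1
  have hθU : ∀ u ∈ D.posUnipotent F, x₁⁻¹ * app θ u * x₁ ∈ D.posUnipotent F := fun u hu => by
    refine hx₁ _ ⟨θ ⟨u, hUG hu⟩, ⟨⟨u, hUG hu⟩, ?_, rfl⟩, (app_coe θ ⟨u, hUG hu⟩).symm⟩
    exact hu
  obtain ⟨L⟩ := nonempty_longest C
  have hLG := C.monomial_le_group L.mono
  set g := x₁⁻¹ * app θ L.n * x₁ with hg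
  have hgG : g ∈ D.group F := mul_mem (mul_mem (inv_mem hx₁G) (app_mem θ _)) hx₁G
  obtain ⟨w, hw, b, hb, n, hn, hnw, u, hu, hgeq⟩ := C.normalForm_exists hgG
  have huU : u ∈ D.posUnipotent F :=
    (show C.Ucl (C.hR.invRoots w) ≤ D.posUnipotent F from C.Ucl_le fun _ hr t =>
      C.xGL_mem_posUnipotent (C.hR.mem_invSet.1 hr.2).1 t) hu
  have hbG := C.borel_le_group hb
  set z : ↥(D.group F) := ⟨x₁ * b, mul_mem hx₁G hbG⟩ with hz
  set φ := θ.trans (MulAut.conj z⁻¹) with hφ
  have happ : ∀ y ∈ D.group F, app φ y = (x₁ * b)⁻¹ * app θ y * (x₁ * b) := fun y hy => by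
    lift y to ↥(D.group F) using hy
    rw [app_coe, app_coe]
    simp [hφ, hz]
  have hnormB : ∀ a, a ∈ D.borelSubgroup F → ∀ v ∈ D.posUnipotent F, a * v * a⁻¹ ∈ D.posUnipotent F :=
    fun a ha v hv => (Subgroup.mem_normalizer_iff.1 (C.borel_normalizes ha) v).1 hv
  have hposφ : ∀ y ∈ D.posUnipotent F, app φ y ∈ D.posUnipotent F := fun y hy => by
    rw [happ y (hUG hy)]
    have := hnormB _ (inv_mem hb) _ (hθU y hy)
    simpa [mul_assoc] using this
  -- the image of `V` is conjugate to `U` by `n`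
  have hnegφ : ∀ v ∈ D.negUnipotent F, n⁻¹ * app φ v * n ∈ D.posUnipotent F := fun v hv => by
    have h1 := L.conj_inv_neg v hv
    have hvG := neg_le_group C hv
    have h2 : app θ v = app θ L.n * app θ (L.n⁻¹ * v * L.n) * (app θ L.n)⁻¹ := by
      rw [← app_conj θ hLG (mul_mem (mul_mem (inv_mem hLG) hvG) hLG)]
      group
    have h3 := mul_mem (mul_mem huU (hθU _ h1)) (inv_mem huU)
    have h4 : n⁻¹ * app φ v * n = u * (x₁⁻¹ * app θ (L.n⁻¹ * v * L.n) * x₁) * u⁻¹ := by
      rw [happ v hvG, h2]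
      have h5 : app θ L.n = x₁ * (b * n * u) * x₁⁻¹ := by rw [← hgeq, hg]; group
      rw [h5]
      group
    rw [h4]
    exact h3
  -- hence `n` sends all positive roots to negative ones
  have hVsurj : ∀ t : GL D.Idx F, t ∈ D.posUnipotent F → ∃ v ∈ D.negUnipotent F, n⁻¹ * app φ v * n = t := by
    intro t ht
    have hb' := (Nat.bijective_iff_injective_and_card
      (fun v : ↥(D.negUnipotent F) => (⟨_, hnegφ v v.2⟩ : ↥(D.posUnipotent F)))).2
      ⟨fun a b e => Subtype.ext (app_inj φ (neg_le_group C a.2) (neg_le_group C b.2)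
        (mul_left_cancel (mul_right_cancel (congrArg Subtype.val e)))), card_negUnipotent C⟩
    obtain ⟨v, hv⟩ := hb'.2 ⟨t, ht⟩
    exact ⟨v, v.2, congrArg Subtype.val hv⟩
  have hwneg : ∀ s : Fin D.nroots, D.IsPosRoot s → D.IsNegRoot (w s) := by
    intro s hs
    refine (C.R.pos_or_neg (w s).isLt).resolve_left fun hp => ?_
    obtain ⟨a, ha⟩ := hnw.2 s 1
    obtain ⟨v, hv, hveq⟩ := hVsurj _ (C.xGL_mem_posUnipotent hs 1)
    have h1 : app φ v = C.xGL (w s) a := by rw [← ha, ← hveq]; group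
    obtain ⟨y, hy, hye⟩ := exists_preimage φ hUG hposφ (C.xGL_mem_posUnipotent hp a)
    have h2 := app_inj φ (neg_le_group C hv) (hUG hy) (h1.trans hye.symm)
    have h3 : v = 1 := (Subgroup.eq_bot_iff_forall _).1 C.borel_inf_negUnipotent v
      (Subgroup.mem_inf.2 ⟨le_sup_left (b := D.diagonalSubgroup F) (h2 ▸ hy), hv⟩)
    rw [h3, app_one, mul_one, inv_mul_cancel] at hveq
    exact one_ne_zero ((C.xGL_eq_one_iff s.isLt).1 hveq.symm)
  refine ⟨z, φ, ⟨hposφ, fun v hv => ?_⟩, fun y => ?_⟩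
  · have h1 := hnegφ v hv
    rw [C.posUnipotent_eq] at h1
    have := C.conj_Ucl_le hnw (T := D.negUnipotent F)
      (fun s hs t => C.xGL_mem_negUnipotent (hwneg s hs) t) _ h1
    simpa [mul_assoc] using this
  · simp [hφ, mul_assoc]

/-! ### Consequences of normality -/

namespace Normal

variable {φ : ↥(D.group F) ≃* ↥(D.group F)} (h : Normal φ)

include h C

theorem mem_borel [Finite F] {g : GL D.Idx F} (hg : g ∈ D.borelSubgroup F) :
    app φ g ∈ D.borelSubgroup F := by
  refine mem_borel_of_normalizes_pos C (app_mem φ g) fun u hu => ?_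
  obtain ⟨y, hy, rfl⟩ := exists_preimage φ (pos_le_group C) h.pos hu
  rw [← app_conj φ (C.borel_le_group hg) (pos_le_group C hy)]
  exact h.pos _ ((Subgroup.mem_normalizer_iff.1 (C.borel_normalizes hg) y).1 hy)

theorem mem_torus [Finite F] (c : Fin D.rank → Fˣ) : ∃ c', app φ (C.R.torus c) = C.R.torus c' := by
  have hd : C.R.torus c ∈ D.diagonalSubgroup F := by rw [C.diagonalSubgroup_eq]; exact ⟨c, rfl⟩
  refine mem_torus_of_normalizes C (h.mem_borel C (C.torus_mem_borel c)) fun v hv => ?_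
  obtain ⟨y, hy, rfl⟩ := exists_preimage φ (neg_le_group C) h.neg hv
  rw [← app_conj φ (C.borel_le_group (C.torus_mem_borel c)) (neg_le_group C hy)]
  exact h.neg _ ((Subgroup.mem_normalizer_iff.1 (C.diagonal_normalizes_neg hd) y).1 hy)

theorem mem_bigCell [Finite F] {m m' g : GL D.Idx F} (hmG : m ∈ D.group F)
    (hm : app φ m ∈ C.bigCell m') (hg : g ∈ C.bigCell m) : app φ g ∈ C.bigCell m' := by
  obtain ⟨a, ha, b, hb, rfl⟩ := C.mem_bigCell.1 hg
  rw [app_mul φ (mul_mem (C.borel_le_group ha) hmG) (C.borel_le_group hb),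
    app_mul φ (C.borel_le_group ha) hmG]
  exact C.bigCell_mul hm (h.mem_borel C ha) (h.mem_borel C hb)

theorem exists_nS [Finite F] (i : Fin D.rank) : ∃ j, app φ (C.nS i) ∈ C.bigCell (C.nS j) := by
  have hnG : C.nS i ∈ D.group F := C.nGL_mem_group _ _
  obtain ⟨P, hP⟩ := C.exists_minimal_parabolic i
  have hmemP : ∀ x, x ∈ P ↔ x ∈ D.borelSubgroup F ∨ x ∈ C.bigCell (C.nS i) := fun x => by
    rw [← SetLike.mem_coe, hP]; rfl
  set K := ((P.subgroupOf (D.group F)).map φ.toMonoidHom).map (D.group F).subtype with hK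
  have hKin : ∀ y ∈ P, y ∈ D.group F → app φ y ∈ K := fun y hy hyG =>
    ⟨φ ⟨y, hyG⟩, ⟨⟨y, hyG⟩, hy, rfl⟩, (app_coe φ ⟨y, hyG⟩).symm⟩
  have hBK : D.borelSubgroup F ≤ K := fun g hg => by
    have hg' := (h.symm C).mem_borel C hg
    have := hKin _ ((hmemP _).2 (Or.inl hg')) (app_mem _ _)
    rwa [app_apply_symm φ (C.borel_le_group hg)] at this
  refine exists_simple_of_two_cells C hBK (app_mem φ _)
    (hKin _ ((hmemP _).2 (Or.inr (C.self_mem_bigCell _))) hnG) (fun hB => ?_) fun x hx => ?_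
  · have := (h.symm C).mem_borel C hB
    rw [app_symm φ hnG] at this
    exact nS_not_mem_borel C i this
  · obtain ⟨_, ⟨y, hy, rfl⟩, rfl⟩ := hx
    rw [show (D.group F).subtype (φ.toMonoidHom y) = app φ (y : GL D.Idx F) from (app_coe φ y).symm]
    rcases (hmemP _).1 hy with hb | hc
    · exact Or.inl (h.mem_borel C hb)
    · exact Or.inr (h.mem_bigCell C hnG (C.self_mem_bigCell _) hc)

end Normal

/-- `φ` maps the root subgroups of the fundamental roots and of their negatives according to a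
permutation of the nodes. -/
structure Std (φ : ↥(D.group F) ≃* ↥(D.group F)) where
  π : Equiv.Perm (Fin D.rank)
  f : Fin D.rank → F → F
  g : Fin D.rank → F → F
  cell : ∀ i, app φ (C.nS i) ∈ C.bigCell (C.nS (π i))
  pos : ∀ i t, app φ (C.xGL (D.simple i.val) t) = C.xGL (D.simple (π i).val) (f i t)
  neg : ∀ i t, app φ (C.xGL (D.neg (D.simple i.val)) t) = C.xGL (D.neg (D.simple (π i).val)) (g i t)
  torus : ∀ c, ∃ c', app φ (C.R.torus c) = C.R.torus c'

theorem nonempty_std [Fintype F] {φ : ↥(D.group F) ≃* ↥(D.group F)} (h : Normal φ) :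
    Nonempty (Std C φ) := by
  classical
  have hs := h.symm C
  choose π0 hπ0 using fun i => Normal.exists_nS C h i
  choose π1 hπ1 using fun i => Normal.exists_nS C hs i
  have hnG : ∀ i, C.nS i ∈ D.group F := fun i => C.nGL_mem_group _ _
  have hl : ∀ i, π1 (π0 i) = i := fun i => by
    have h1 := hs.mem_bigCell C (hnG (π0 i)) (hπ1 (π0 i)) (hπ0 i)
    rw [app_symm φ (hnG i)] at h1
    exact (cell_eq C h1).symm
  have hr : ∀ i, π0 (π1 i) = i := fun i => by
    have h1 := h.mem_bigCell C (hnG (π1 i)) (hπ0 (π1 i)) (hπ1 i)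
    rw [app_apply_symm φ (hnG i)] at h1
    exact (cell_eq C h1).symm
  let π : Equiv.Perm (Fin D.rank) := ⟨π0, π1, hl, hr⟩
  have hnegroot : ∀ i : Fin D.rank, D.IsNegRoot (D.neg (D.simple i.val)) := fun i =>
    (C.R.isNeg_neg_iff (C.R.simple_lt i)).2 (C.R.simple_pos i)
  have hneg : ∀ i t, ∃ u, app φ (C.xGL (D.neg (D.simple i.val)) t) =
      C.xGL (D.neg (D.simple (π i).val)) u := by
    intro i t
    refine neg_inter_parabolic C (π i) (h.neg _ (C.xGL_mem_negUnipotent (hnegroot i) t)) ?_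
    obtain ⟨-, e, he⟩ := C.acts_nS i
    obtain ⟨h1, -, h2⟩ := he (C.pRoot i)
    have h3 := h2 ((e (C.pRoot i) : F) * t)
    rw [← mul_assoc, show ((e (C.pRoot i) : F) * (e (C.pRoot i) : F)) = 1 by
      rcases h1 with h1 | h1 <;> simp [h1], one_mul, C.sPerm_pRoot] at h3
    obtain ⟨P, hP⟩ := C.exists_minimal_parabolic (π i)
    have hmemP : ∀ x, x ∈ P ↔ InP C (π i) x := fun x => by rw [← SetLike.mem_coe, hP]; rfl
    have hin : ∀ y, y ∈ D.borelSubgroup F ∨ y ∈ C.bigCell (C.nS i) → app φ y ∈ P := by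
      rintro y (hy | hy)
      · exact (hmemP _).2 (Or.inl (h.mem_borel C hy))
      · exact (hmemP _).2 (Or.inr (h.mem_bigCell C (hnG i) (hπ0 i) hy))
    refine (hmemP _).1 ?_
    change app φ (C.xGL (C.pNeg i : Fin D.nroots) t) ∈ P
    rw [← h3, app_conj φ (hnG i) (C.xGL_mem_group _ _)]
    exact mul_mem (mul_mem (hin _ (Or.inr (C.self_mem_bigCell _)))
      (hin _ (Or.inl (C.pos_mem_borel (C.R.simple_pos i) _))))
      (inv_mem (hin _ (Or.inr (C.self_mem_bigCell _))))
  choose g hg using hneg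
  obtain ⟨L⟩ := nonempty_longest C
  have hLG := C.monomial_le_group L.mono
  set h0 := L.n⁻¹ * app φ L.n with hh0
  have hφn : ∀ u ∈ D.posUnipotent F, app φ L.n * u * (app φ L.n)⁻¹ ∈ D.negUnipotent F := by
    intro u hu
    obtain ⟨y, hy, rfl⟩ := exists_preimage φ (pos_le_group C) h.pos hu
    rw [← app_conj φ hLG (pos_le_group C hy)]
    exact h.neg _ (L.conj_pos y hy)
  have hφn' : ∀ v ∈ D.negUnipotent F, app φ L.n * v * (app φ L.n)⁻¹ ∈ D.posUnipotent F := by
    intro v hv
    obtain ⟨y, hy, rfl⟩ := exists_preimage φ (neg_le_group C) h.neg hv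
    rw [← app_conj φ hLG (neg_le_group C hy)]
    exact h.pos _ (L.conj_neg y hy)
  have hh0G : h0 ∈ D.group F := mul_mem (inv_mem hLG) (app_mem φ _)
  have hh0B : h0 ∈ D.borelSubgroup F := mem_borel_of_normalizes_pos C hh0G fun u hu => by
    have := L.conj_inv_neg _ (hφn u hu)
    simpa [hh0, mul_assoc] using this
  obtain ⟨c0, hc0⟩ := mem_torus_of_normalizes C hh0B fun v hv => by
    have := L.conj_inv_pos _ (hφn' v hv)
    simpa [hh0, mul_assoc] using this
  have hpos : ∀ i t, ∃ u, app φ (C.xGL (D.simple i.val) t) = C.xGL (D.simple (π i).val) u := by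
    choose σ hσ using fun j => L.exists_simple j
    have hσinj : Function.Injective σ := fun a b e => by
      have h1 : L.w (C.pNeg a) = L.w (C.pNeg b) := by rw [hσ, hσ, e]
      have h2 := congrArg (fun r : Fin D.nroots => D.neg r.val) (L.w.injective h1)
      simp only [ChevCore.pNeg, C.R.neg_neg _ (C.R.simple_lt _)] at h2
      exact simple_injective C h2
    obtain ⟨-, e, he⟩ := L.acts
    intro i
    obtain ⟨j, rfl⟩ := (Finite.injective_iff_surjective.1 hσinj) i
    have key : ∀ t, ∃ u, app φ (C.xGL (D.simple (σ j).val) t) = C.xGL (D.simple (σ (π j)).val) u := by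
      intro t
      obtain ⟨h1, -, h2⟩ := he (C.pNeg j)
      have h3 := h2 ((e (C.pNeg j) : F) * t)
      rw [← mul_assoc, show ((e (C.pNeg j) : F) * (e (C.pNeg j) : F)) = 1 by
        rcases h1 with h1 | h1 <;> simp [h1], one_mul, hσ] at h3
      change L.n * C.xGL (D.neg (D.simple j.val)) _ * L.n⁻¹ = C.xGL (D.simple (σ j).val) t at h3
      rw [← h3, app_conj φ hLG (C.xGL_mem_group _ _), hg,
        show app φ L.n = L.n * C.R.torus c0 by rw [← hc0, hh0, mul_inv_cancel_left]]
      set s := g j ((e (C.pNeg j) : F) * t) with hsdef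
      have h4 := C.acts_torus c0 (C.pNeg (π j)) s
      have h5 := (he (C.pNeg (π j))).2.2
        ((C.R.torusChar c0 (C.R.α (C.pNeg (π j) : Fin D.nroots)) : F) * s)
      rw [hσ] at h5
      exact ⟨(e (C.pNeg (π j)) : F) *
        ((C.R.torusChar c0 (C.R.α (C.pNeg (π j) : Fin D.nroots)) : F) * s), by
          change _ = C.xGL (C.pRoot (σ (π j)) : Fin D.nroots) _
          rw [← h5, ← h4]
          show L.n * C.R.torus c0 * C.xGL (C.pNeg (π j) : Fin D.nroots) s *
            (L.n * C.R.torus c0)⁻¹ = _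
          group⟩
    suffices hij : σ (π j) = π (σ j) by
      intro t; rw [← hij]; exact key t
    by_contra hne
    obtain ⟨u, hu⟩ := key 1
    have hc := commute_of_simple_ne C hne u (g (σ j) 1)
    rw [← hu, ← hg] at hc
    refine not_commute_simple_neg C (σ j) (t := 1) (u := 1) one_ne_zero one_ne_zero ?_
    refine app_inj φ (mul_mem (C.xGL_mem_group _ _) (C.xGL_mem_group _ _))
      (mul_mem (C.xGL_mem_group _ _) (C.xGL_mem_group _ _)) ?_
    rw [app_mul φ (C.xGL_mem_group _ _) (C.xGL_mem_group _ _),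
      app_mul φ (C.xGL_mem_group _ _) (C.xGL_mem_group _ _)]
    exact hc
  choose f hf using hpos
  exact ⟨⟨π, f, g, hπ0, hf, hg, Normal.mem_torus C h⟩⟩

end CfsgLib.ChevAut
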