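import Cfsg.Agent.Lib.ChevAut.OutStructure

/-! Table facts for the structure of the outer automorphism groups in types D₄ and G₂. -/

set_option autoImplicit false

namespace CfsgLib.ChevAut

open Cfsg.Lie CfsgLib.ChevStr

/-- Being a symmetry is decidable. -/
instance (D : ChevalleyDatum) (π : Equiv.Perm (Fin D.rank)) : Decidable (D.IsDiagramSymmetry π) :=
  inferInstanceAs (Decidable (∀ i j : Fin D.rank, i ≠ j → D.bonds (π i) (π j) = D.bonds i j))

theorem card_symD4 :
    Nat.card {π : Equiv.Perm (Fin chevD4.rank) // chevD4.IsDiagramSymmetry π} = 6 := by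
  rw [Nat.card_eq_fintype_card]
  decide +kernel

theorem permD4_sym : chevD4.IsDiagramSymmetry permD4a ∧ chevD4.IsDiagramSymmetry permD4c ∧
    permD4a * permD4c ≠ permD4c * permD4a := by
  refine ⟨by decide +kernel, by decide +kernel, fun e => ?_⟩
  have h := congrArg (fun p : Equiv.Perm (Fin chevD4.rank) => (p ⟨0, by decide +kernel⟩).val) e
  revert h
  decide +kernel

theorem isLong_D4 : ∀ r : Fin chevD4.nroots, chevD4.isLong r = false := by decide +kernel

theorem isLong_oob_D4 : chevD4.isLong (chevD4.simple chevD4.rank) = false := by decide +kernel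

theorem simple_D4_ge (i : ℕ) (h : chevD4.rank ≤ i) : chevD4.simple i = chevD4.simple chevD4.rank := by
  have h1 : chevD4.simpleIdx.size = chevD4.rank := by decide +kernel
  simp [ChevalleyDatum.simple, Array.getD, h1, Nat.not_lt.2 h]

theorem graphExp_D4 {c : ℕ} (i j : ℕ) : chevD4.graphExp c i j = 1 := by
  have hlong : ∀ k, chevD4.isLong (chevD4.simple k) = false := fun k => by
    by_cases hk : k < chevD4.rank
    · have hlt : ∀ k : Fin chevD4.rank, chevD4.simple k.val < chevD4.nroots := by decide +kernel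
      exact isLong_D4 ⟨_, hlt ⟨k, hk⟩⟩
    · rw [simple_D4_ge k (Nat.not_lt.1 hk)]; exact isLong_oob_D4
  simp [ChevalleyDatum.graphExp, hlong]

theorem three_G2 {F : Type*} [Field F] [Finite F] {C : ChevCore chevG2 F}
    (φ : ↥(chevG2.group F) ≃* ↥(chevG2.group F)) (S : Std C φ) (i k : Fin chevG2.rank)
    (h1 : chevG2.cartan i.val (chevG2.simple k.val) = -1)
    (h2 : chevG2.cartan (S.π i).val (chevG2.simple (S.π k).val) = -3) : (3 : F) = 0 := by
  have ht : ∀ i k : Fin chevG2.rank, chevG2.cartan i.val (chevG2.simple k.val) = -1 →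
      i.val = 1 ∧ k.val = 0 := by decide +kernel
  have ht' : ∀ i k : Fin chevG2.rank, chevG2.cartan i.val (chevG2.simple k.val) = -3 →
      i.val = 0 ∧ k.val = 1 := by decide +kernel
  obtain ⟨hi, hk⟩ := ht i k h1
  obtain ⟨hi', hk'⟩ := ht' _ _ h2
  exact three_eq_zero_G2 S k i hk hi (Fin.ext (by omega)) (Fin.ext (by omega))

end CfsgLib.ChevAut
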