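import Cfsg.Agent.Lib.ChevAut.OutTheorems
import Cfsg.Agent.Lib.ChevAut.OutTables

/-! The order of the outer automorphism group of G₂. -/

set_option autoImplicit false

namespace CfsgLib.ChevAut

open Cfsg.Lie CfsgLib.ChevStr CfsgLib.KnownSimple

variable {F : Type*} [Field F] [Fintype F]

theorem card_out_G2 (p f : ℕ) [Fact p.Prime] [CharP F p] (hF : Fintype.card F = p ^ f) :
    Nat.card (Cfsg.Out ↥(chevG2.group F)) = if p = 3 then 2 * f else f := by
  have hf : Nat.card (F ≃+* F) = f := CfsgLib.FieldGalois.card_ringAut hF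
  have key : ∀ Gr : Graphs (coreG2 F),
      Nat.card (Cfsg.Out ↥(chevG2.group F)) = Nat.card Gr.Γ * f := fun Gr => by
    have h := card_out diagramG2 diagramConnectedG2 (by decide +kernel)
      three_G2 chainTableOK_chevG2 Gr
    rw [hf, Nat.mul_assoc] at h
    rw [out_of_count Nat.card_pos h (card_diagonalG2 F), one_mul, Nat.mul_comm]
  by_cases hp : p = 3
  · subst hp
    rw [if_pos rfl, key graphsG2three,
      show Nat.card (graphsG2three (F := F)).Γ = 2 from (Nat.card_eq_fintype_card (α := Bool)).trans
        Fintype.card_bool]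
  · have h3 : (3 : F) ≠ 0 := fun e => hp
      ((Nat.prime_dvd_prime_iff_eq Fact.out Nat.prime_three).1
        ((CharP.cast_eq_zero_iff F p 3).1 (by exact_mod_cast e)))
    rw [if_neg hp, key (graphsG2ne h3),
      show Nat.card (graphsG2ne h3).Γ = 1 from Nat.card_unique (α := Unit), one_mul]

end CfsgLib.ChevAut
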