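import Cfsg.Agent.Lib.ChevAut.GraphTables
import Cfsg.Agent.Lib.ChevStr.Orders
import Cfsg.Agent.Lib.AutPSL.FieldGalois

/-! The orders of the outer automorphism groups of F₄, E₆, E₇ and E₈. -/

set_option autoImplicit false

namespace CfsgLib.ChevAut

open Cfsg.Lie CfsgLib.ChevStr CfsgLib.KnownSimple

variable {F : Type*} [Field F] [Fintype F]

theorem out_of_count {a b n d h : ℕ} (hh : 0 < h) (h1 : a * h = n * b) (h2 : d * h = n) : a = d * b :=
  Nat.eq_of_mul_eq_mul_right hh (by rw [h1, ← h2, Nat.mul_assoc, Nat.mul_assoc, Nat.mul_comm b h])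

theorem card_out_F4 (p f : ℕ) [Fact p.Prime] [CharP F p] (hF : Fintype.card F = p ^ f) :
    Nat.card (Cfsg.Out ↥(chevF4.group F)) = Nat.gcd 2 p * f := by
  have hf : Nat.card (F ≃+* F) = f := CfsgLib.FieldGalois.card_ringAut hF
  have key : ∀ Gr : Graphs (coreF4 F),
      Nat.card (Cfsg.Out ↥(chevF4.group F)) = Nat.card Gr.Γ * f := fun Gr => by
    have h := card_out diagramF4 diagramConnectedF4 (by decide +kernel)
      (fun φ S i k _ h => absurd h (ne_neg_three_F4 _ _)) chainTableOK_chevF4 Gr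
    rw [hf, Nat.mul_assoc] at h
    rw [out_of_count Nat.card_pos h (card_diagonalF4 F), one_mul, Nat.mul_comm]
  by_cases hp : p = 2
  · subst hp
    rw [key graphsF4two, show Nat.card (graphsF4two (F := F)).Γ = 2 from (Nat.card_eq_fintype_card (α := Bool)).trans
      Fintype.card_bool, Nat.gcd_self]
  · have h2 : (2 : F) ≠ 0 := fun e => hp
      (((Nat.prime_dvd_prime_iff_eq Fact.out Nat.prime_two).1
        ((CharP.cast_eq_zero_iff F p 2).1 (by exact_mod_cast e))))
    rw [key (graphsF4odd h2), show Nat.card (graphsF4odd h2).Γ = 1 from Nat.card_unique (α := Unit),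
      (Nat.coprime_primes Nat.prime_two Fact.out).2 (Ne.symm hp)]

theorem card_out_E6 (p f : ℕ) [Fact p.Prime] [CharP F p] (hF : Fintype.card F = p ^ f) :
    Nat.card (Cfsg.Out ↥(chevE6.group F)) = 2 * Nat.gcd 3 (p ^ f - 1) * f := by
  have hf : Nat.card (F ≃+* F) = f := CfsgLib.FieldGalois.card_ringAut hF
  have h := card_out diagramE6 diagramConnectedE6 (by decide +kernel)
    (fun φ S i k _ h => absurd h (ne_neg_three_E6 _ _)) chainTableOK_chevE6 (graphsE6 (coreE6 F))
  rw [hf, show Nat.card (graphsE6 (coreE6 F)).Γ = 2 from (Nat.card_eq_fintype_card (α := Bool)).trans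
    Fintype.card_bool, Nat.mul_assoc] at h
  rw [out_of_count Nat.card_pos h (card_diagonalE6 F), hF]
  ring

theorem card_out_E7 (p f : ℕ) [Fact p.Prime] [CharP F p] (hF : Fintype.card F = p ^ f) :
    Nat.card (Cfsg.Out ↥(chevE7.group F)) = Nat.gcd 2 (p ^ f - 1) * f := by
  have hf : Nat.card (F ≃+* F) = f := CfsgLib.FieldGalois.card_ringAut hF
  set Gr : Graphs (coreE7 F) :=
    trivialGraphs _ fun φ hφ S => perm_one_of_syms _ diagramE7 (by decide +kernel) hφ S with hGr
  have h := card_out diagramE7 diagramConnectedE7 (by decide +kernel)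
    (fun φ S i k _ h => absurd h (ne_neg_three_E7 _ _)) chainTableOK_chevE7 Gr
  rw [hf, show Nat.card Gr.Γ = 1 from Nat.card_unique (α := Unit), Nat.mul_one] at h
  rw [out_of_count Nat.card_pos h (card_diagonalE7 F), hF]

theorem card_out_E8 (p f : ℕ) [Fact p.Prime] [CharP F p] (hF : Fintype.card F = p ^ f) :
    Nat.card (Cfsg.Out ↥(chevE8.group F)) = f := by
  have hf : Nat.card (F ≃+* F) = f := CfsgLib.FieldGalois.card_ringAut hF
  set Gr : Graphs (coreE8 F) :=
    trivialGraphs _ fun φ hφ S => perm_one_of_syms _ diagramE8 (by decide +kernel) hφ S with hGr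
  have h := card_out diagramE8 diagramConnectedE8 (by decide +kernel)
    (fun φ S i k _ h => absurd h (ne_neg_three_E8 _ _)) chainTableOK_chevE8 Gr
  rw [hf, show Nat.card Gr.Γ = 1 from Nat.card_unique (α := Unit), Nat.mul_one] at h
  rw [out_of_count Nat.card_pos h (card_diagonalE8 F), one_mul]

end CfsgLib.ChevAut
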