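import Cfsg.Agent.Lib.ChevAut.Normalize

/-!
The parameter maps of an automorphism permuting the fundamental root subgroups are scalar multiples
of field automorphisms, tied together by the Cartan integers.
-/

set_option autoImplicit false

namespace CfsgLib.ChevAut

open Cfsg.Lie CfsgLib.ChevStr
open scoped MatrixGroups

variable {D : ChevalleyDatum} {F : Type*} [Field F] {C : ChevCore D F}

namespace Std

variable {φ : ↥(D.group F) ≃* ↥(D.group F)} (S : Std C φ)

theorem f_add (i : Fin D.rank) (t u : F) : S.f i (t + u) = S.f i t + S.f i u := by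
  refine C.xGL_injective (C.R.simple_lt (S.π i)) ?_
  rw [← S.pos, C.xGL_add, app_mul φ (C.xGL_mem_group _ _) (C.xGL_mem_group _ _), S.pos, S.pos,
    ← C.xGL_add]

theorem f_zero (i : Fin D.rank) : S.f i 0 = 0 :=
  add_eq_left.1 ((S.f_add i 0 0).symm.trans (by rw [add_zero]))

theorem f_neg (i : Fin D.rank) (t : F) : S.f i (-t) = -S.f i t :=
  eq_neg_of_add_eq_zero_left (by rw [← S.f_add, neg_add_cancel, S.f_zero])

theorem f_injective (i : Fin D.rank) : Function.Injective (S.f i) := fun t u e =>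
  C.xGL_injective (C.R.simple_lt i)
    (app_inj φ (C.xGL_mem_group _ _) (C.xGL_mem_group _ _) (by rw [S.pos, S.pos, e]))

theorem f_ne_zero (i : Fin D.rank) {t : F} (ht : t ≠ 0) : S.f i t ≠ 0 := fun e =>
  ht (S.f_injective i (e.trans (S.f_zero i).symm))

theorem g_zero (i : Fin D.rank) : S.g i 0 = 0 := by
  refine C.xGL_injective (C.R.neg_lt _ (C.R.simple_lt (S.π i))) ?_
  rw [← S.neg, C.xGL_zero, C.xGL_zero, app_one]

theorem nGL_word (p : ℕ) (a : F) :
    C.nGL p a = C.xGL p a * C.xGL (D.neg p) (-a⁻¹) * C.xGL p a := by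
  simp [ChevCore.nGL, ChevCore.wordGL, ChevalleyDatum.nWord, mul_assoc]

theorem g_eq [Finite F] (i : Fin D.rank) {a : F} (ha : a ≠ 0) :
    S.g i (-a⁻¹) = -(S.f i a)⁻¹ := by
  obtain ⟨s, hs⟩ := (Finite.injective_iff_surjective.1 (S.f_injective i)) 1
  obtain ⟨v, hv⟩ := nGL_conj_simple C i ha s
  have h1 := congrArg (app φ) hv
  have hm : C.nGL (D.simple i.val) a ∈ D.group F := C.nGL_mem_group _ _
  rw [app_conj φ hm (C.xGL_mem_group _ _), nGL_word,
    app_mul φ (mul_mem (C.xGL_mem_group _ _) (C.xGL_mem_group _ _)) (C.xGL_mem_group _ _),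
    app_mul φ (C.xGL_mem_group _ _) (C.xGL_mem_group _ _), S.pos, S.pos, S.neg, S.neg, hs] at h1
  exact rankOne_rel C (S.π i) h1

theorem app_nGL [Finite F] (i : Fin D.rank) {a : F} (ha : a ≠ 0) :
    app φ (C.nGL (D.simple i.val) a) = C.nGL (D.simple (S.π i).val) (S.f i a) := by
  rw [nGL_word, nGL_word,
    app_mul φ (mul_mem (C.xGL_mem_group _ _) (C.xGL_mem_group _ _)) (C.xGL_mem_group _ _),
    app_mul φ (C.xGL_mem_group _ _) (C.xGL_mem_group _ _), S.pos, S.neg, S.g_eq i ha]

/-- The image of a parameter of the torus of node `i`. -/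
noncomputable def tor (i : Fin D.rank) (c : Fˣ) : Fˣ :=
  Units.mk0 (S.f i c / S.f i 1)
    (div_ne_zero (S.f_ne_zero i c.ne_zero) (S.f_ne_zero i one_ne_zero))

theorem app_torusSingle [Finite F] (i : Fin D.rank) (c : Fˣ) :
    app φ (C.R.torusSingle i c) = C.R.torusSingle (S.π i) (S.tor i c) := by
  have hfc := S.f_ne_zero i c.ne_zero
  have hf1 := S.f_ne_zero i (one_ne_zero (α := F))
  rw [← C.hGL_simple, C.hGL_eq,
    app_mul φ (C.nGL_mem_group _ _) (C.nGL_mem_group _ _), S.app_nGL i c.ne_zero,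
    S.app_nGL i (neg_ne_zero.2 one_ne_zero), S.f_neg, C.nGL_neg]
  have e1 : C.nGL (D.simple (S.π i).val) (S.f i c) =
      C.R.torusSingle (S.π i) (Units.mk0 _ hfc) * C.nS (S.π i) := C.nGL_simple _ (Units.mk0 _ hfc)
  have e2 : C.nGL (D.simple (S.π i).val) (S.f i 1) =
      C.R.torusSingle (S.π i) (Units.mk0 _ hf1) * C.nS (S.π i) := C.nGL_simple _ (Units.mk0 _ hf1)
  rw [e1, e2, mul_inv_rev, ← mul_assoc, mul_inv_cancel_right, RootData.torusSingle,
    RootData.torusSingle, ← map_inv, ← map_mul, RootData.torusSingle, ← Pi.mulSingle_inv,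
    ← Pi.mulSingle_mul]
  refine congrArg C.R.torus (congrArg (Pi.mulSingle (S.π i)) (Units.ext ?_))
  simp [tor, div_eq_mul_inv]

theorem scalar_rel [Finite F] (i k : Fin D.rank) (c : Fˣ) (u : F) :
    S.f k (((c ^ D.cartan i.val (D.simple k.val) : Fˣ) : F) * u) =
      ((S.tor i c ^ D.cartan (S.π i).val (D.simple (S.π k).val) : Fˣ) : F) * S.f k u := by
  have h1 := C.acts_torus (Pi.mulSingle i c) (C.pRoot k) u
  rw [C.R.torusChar_single _ _ (C.pRoot k).isLt] at h1
  change C.R.torusSingle i c * C.xGL (D.simple k.val) u * (C.R.torusSingle i c)⁻¹ =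
    C.xGL (D.simple k.val) (((c ^ D.cartan i.val (D.simple k.val) : Fˣ) : F) * u) at h1
  have h2 := congrArg (app φ) h1
  have ht : C.R.torusSingle i c ∈ D.group F := C.borel_le_group (C.torus_mem_borel _)
  rw [app_conj φ ht (C.xGL_mem_group _ _), S.pos, S.pos, S.app_torusSingle] at h2
  have h3 := C.acts_torus (Pi.mulSingle (S.π i) (S.tor i c)) (C.pRoot (S.π k)) (S.f k u)
  rw [C.R.torusChar_single _ _ (C.pRoot (S.π k)).isLt] at h3
  change C.R.torusSingle (S.π i) (S.tor i c) * C.xGL (D.simple (S.π k).val) (S.f k u) *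
      (C.R.torusSingle (S.π i) (S.tor i c))⁻¹ = C.xGL (D.simple (S.π k).val)
      (((S.tor i c ^ D.cartan (S.π i).val (D.simple (S.π k).val) : Fˣ) : F) * S.f k u) at h3
  exact (C.xGL_injective (C.R.simple_lt (S.π k)) (h3.symm.trans h2)).symm

/-- The normalised parameter map of node `i`. -/
def σfun (i : Fin D.rank) (t : F) : F := S.f i t / S.f i 1

theorem σfun_one (i : Fin D.rank) : S.σfun i 1 = 1 := div_self (S.f_ne_zero i one_ne_zero)

theorem σfun_add (i : Fin D.rank) (t u : F) : S.σfun i (t + u) = S.σfun i t + S.σfun i u := by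
  rw [σfun, S.f_add, add_div]; rfl

theorem σfun_sq_mul [Finite F] (i : Fin D.rank) (c u : F) :
    S.σfun i (c ^ 2 * u) = S.σfun i c ^ 2 * S.σfun i u := by
  by_cases hc : c = 0
  · simp [σfun, hc, S.f_zero]
  · have h := S.scalar_rel i i (Units.mk0 c hc) u
    rw [C.hR.cartan_self i, C.hR.cartan_self (S.π i), zpow_two, zpow_two, Units.val_mul,
      Units.val_mul, Units.val_mk0] at h
    rw [σfun, σfun, σfun, pow_two, pow_two, h]
    simp [tor, mul_div_assoc]

theorem σfun_mul [Finite F] (i : Fin D.rank) (c u : F) :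
    S.σfun i (c * u) = S.σfun i c * S.σfun i u := by
  have hsq : ∀ x, S.σfun i (x ^ 2) = S.σfun i x ^ 2 := fun x => by
    have h := S.σfun_sq_mul i x 1
    rwa [mul_one, σfun_one, mul_one] at h
  by_cases h2 : (2 : F) = 0
  · have hchar : ringChar F = 2 := by
      refine CharP.ringChar_of_prime_eq_zero Nat.prime_two ?_
      exact_mod_cast h2
    obtain ⟨d, rfl⟩ := FiniteField.isSquare_of_char_two hchar c
    rw [← pow_two, S.σfun_sq_mul, hsq]
  · have h := S.σfun_sq_mul i (c + u) 1
    rw [mul_one, σfun_one, mul_one, show (c + u) ^ 2 = c ^ 2 + (c * u + c * u) + u ^ 2 by ring,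
      σfun_add, σfun_add, σfun_add, σfun_add, hsq, hsq] at h
    have h' : (2 : F) * (S.σfun i (c * u) - S.σfun i c * S.σfun i u) = 0 := by linear_combination h
    exact sub_eq_zero.1 ((mul_eq_zero.1 h').resolve_left h2)

theorem σfun_injective (i : Fin D.rank) : Function.Injective (S.σfun i) := fun t u e =>
  S.f_injective i ((div_left_inj' (S.f_ne_zero i one_ne_zero)).1 e)

/-- The field automorphism attached to node `i`. -/
noncomputable def σ [Finite F] (i : Fin D.rank) : F ≃+* F :=
  RingEquiv.ofBijective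
    ({ toFun := S.σfun i
       map_one' := S.σfun_one i
       map_mul' := S.σfun_mul i
       map_zero' := by simp [σfun, S.f_zero]
       map_add' := S.σfun_add i } : F →+* F)
    ⟨S.σfun_injective i, Finite.injective_iff_surjective.1 (S.σfun_injective i)⟩

theorem σ_apply [Finite F] (i : Fin D.rank) (t : F) : S.σ i t = S.f i t / S.f i 1 := rfl

/-- The leading coefficient of node `i`. -/
noncomputable def lead (i : Fin D.rank) : Fˣ := Units.mk0 (S.f i 1) (S.f_ne_zero i one_ne_zero)

theorem f_eq [Finite F] (i : Fin D.rank) (t : F) : S.f i t = (S.lead i : F) * S.σ i t := by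
  rw [σ_apply, lead, Units.val_mk0, mul_div_cancel₀]
  exact S.f_ne_zero i one_ne_zero

theorem g_formula [Finite F] (i : Fin D.rank) (t : F) :
    S.g i t = ((S.lead i)⁻¹ : Fˣ) * S.σ i t := by
  by_cases ht : t = 0
  · subst ht; simp [S.g_zero]
  · have h := S.g_eq i (a := -t⁻¹) (by simpa using ht)
    rw [inv_neg, inv_inv, neg_neg, S.f_neg, inv_neg, neg_neg] at h
    rw [h, S.f_eq i t⁻¹, map_inv₀, mul_inv, inv_inv, Units.val_inv_eq_inv_val]

/-- The relation between the field automorphisms of two nodes. -/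
theorem σ_rel [Finite F] (i k : Fin D.rank) (c : Fˣ) :
    ((Units.map (S.σ k : F →* F) c) ^ D.cartan i.val (D.simple k.val) : Fˣ) =
      (Units.map (S.σ i : F →* F) c) ^ D.cartan (S.π i).val (D.simple (S.π k).val) := by
  have h := S.scalar_rel i k c 1
  rw [mul_one] at h
  have ht : S.tor i c = Units.map (S.σ i : F →* F) c := Units.ext rfl
  rw [← map_zpow, ← ht]
  refine Units.ext ?_
  show S.σ k _ = _
  rw [σ_apply, h, mul_div_assoc, div_self (S.f_ne_zero k one_ne_zero), mul_one]

end Std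

end CfsgLib.ChevAut
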