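import Cfsg.Agent.Lib.ChevAut.Diagram
import Cfsg.Agent.Lib.ChevStr.Mem
import Cfsg.Prelude.Def_ChevB2

/-!
Diagram facts for the seven tabulated types, and the characteristic 3 obstruction in type G₂.
-/

set_option autoImplicit false
set_option Elab.async false

namespace CfsgLib.ChevAut

open Cfsg.Lie CfsgLib.ChevStr
open scoped MatrixGroups

/-- All roots of one length. -/
def laceCheck (D : ChevalleyDatum) : Bool :=
  (List.range D.rank).all fun i => !D.isLong (D.simple i) &&
    (List.range D.rank).all fun k => i == k || D.cartan i (D.simple k) == 0 || D.cartan i (D.simple k) == -1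

theorem diagram_of_lace {D : ChevalleyDatum} (hpos : 0 < D.rank) (hb : bondCheck D = true)
    (h : laceCheck D = true) : Diagram D := by
  simp only [laceCheck, List.all_eq_true, List.mem_range, Bool.and_eq_true, Bool.or_eq_true,
    beq_iff_eq, Bool.not_eq_true'] at h
  have hA : ∀ i k : Fin D.rank, i ≠ k → D.bonds i.val k.val ≠ 0 →
      D.cartan i.val (D.simple k.val) = -1 := fun i k hik hne => by
    rcases (h i.val i.isLt).2 k.val k.isLt with (e | e) | e
    · exact absurd (Fin.ext e) hik
    · exact absurd (by rw [ChevalleyDatum.bonds, e, zero_mul]) hne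
    · exact e
  have hg : ∀ i j : Fin D.rank, gx D i.val j.val = false := fun i j => by
    simp [gx, (h j.val j.isLt).1]
  refine ⟨hb, fun i k hik hne => Or.inl (hA i k hik hne), fun π hπ i k hik hne _ => Or.inl ⟨?_, ?_⟩,
    fun π _ => ⟨⟨0, hpos⟩, hg _ _⟩⟩
  · exact hA _ _ (fun e => hik (π.injective e)) (by rw [hπ i k hik]; exact hne)
  · rw [hg, hg]

/-- `gx` read from a list of the long fundamental roots. -/
def gxList (L : List Bool) (i j : ℕ) : Bool := L.getD j false && !L.getD i false

/-- The conditions of `Diagram` on one map of the nodes. -/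
def PiOK (D : ChevalleyDatum) (L : List Bool) (π : Fin D.rank → Fin D.rank) : Prop :=
  (∀ i k : Fin D.rank, i ≠ k → D.bonds (π i).val (π k).val = D.bonds i.val k.val) →
    (∃ i, gxList L i.val (π i).val = false) ∧
    ∀ i k : Fin D.rank, i ≠ k → D.bonds i.val k.val ≠ 0 → D.cartan i.val (D.simple k.val) = -1 →
      (D.cartan (π i).val (D.simple (π k).val) = -1 ∧
          gxList L i.val (π i).val = gxList L k.val (π k).val) ∨
        ((D.cartan (π i).val (D.simple (π k).val) = -2 ∨ D.cartan (π i).val (D.simple (π k).val) = -3) ∧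
          gxList L i.val (π i).val = false ∧ gxList L k.val (π k).val = true)

set_option synthInstance.maxHeartbeats 400000 in
set_option synthInstance.maxSize 2000 in
instance (D : ChevalleyDatum) (L : List Bool) (π : Fin D.rank → Fin D.rank) :
    Decidable (PiOK D L π) := by
  unfold PiOK; infer_instance

theorem diagram_of_pi {D : ChevalleyDatum} (L : List Bool) (hb : bondCheck D = true)
    (hL : ∀ i : Fin D.rank, D.isLong (D.simple i.val) = L.getD i.val false)
    (hs : ∀ i k : Fin D.rank, i ≠ k → D.bonds i.val k.val ≠ 0 →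
      D.cartan i.val (D.simple k.val) = -1 ∨ D.cartan k.val (D.simple i.val) = -1)
    (h : ∀ π : Fin D.rank → Fin D.rank, PiOK D L π) : Diagram D := by
  have hg : ∀ i j : Fin D.rank, gx D i.val j.val = gxList L i.val j.val := fun i j => by
    simp [gx, gxList, hL]
  refine ⟨hb, hs, fun π hπ i k hik hne hA => ?_, fun π hπ => ?_⟩
  · simp only [hg]
    exact (h π fun a b => hπ a b).2 i k hik hne hA
  · simp only [hg]
    exact (h π fun a b => hπ a b).1

/-- One row of `bondCheck`; the rows are checked one declaration at a time to bound the peak memory. -/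
def bondRow (D : ChevalleyDatum) (i : ℕ) : Bool :=
  (List.range D.rank).all fun k => i == k ||
    ((D.bonds i k == 0 || D.bonds i k == 1 || D.bonds i k == 2 || D.bonds i k == 3) &&
      (powFix D i k 2 == (D.bonds i k == 0)) && (powFix D i k 3 == (D.bonds i k == 1)) &&
      (powFix D i k 4 == (D.bonds i k == 0 || D.bonds i k == 2)) &&
      (!decide (D.cartan i (D.simple k) < 0) || !(D.bonds i k == 0)))

theorem bondRowE8_0 : bondRow chevE8 0 = true := by decide +kernel
theorem bondRowE8_1 : bondRow chevE8 1 = true := by decide +kernel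
theorem bondRowE8_2 : bondRow chevE8 2 = true := by decide +kernel
theorem bondRowE8_3 : bondRow chevE8 3 = true := by decide +kernel
theorem bondRowE8_4 : bondRow chevE8 4 = true := by decide +kernel
theorem bondRowE8_5 : bondRow chevE8 5 = true := by decide +kernel
theorem bondRowE8_6 : bondRow chevE8 6 = true := by decide +kernel
theorem bondRowE8_7 : bondRow chevE8 7 = true := by decide +kernel

theorem bondE8 : bondCheck chevE8 = true := by
  refine List.all_eq_true.2 fun i hi => ?_
  have hi8 : i < 8 := List.mem_range.1 hi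
  match i, hi8 with
  | 0, _ => exact bondRowE8_0
  | 1, _ => exact bondRowE8_1
  | 2, _ => exact bondRowE8_2
  | 3, _ => exact bondRowE8_3
  | 4, _ => exact bondRowE8_4
  | 5, _ => exact bondRowE8_5
  | 6, _ => exact bondRowE8_6
  | 7, _ => exact bondRowE8_7
  | n + 8, h => exact absurd h (by omega)

theorem diagramG2 : Diagram chevG2 :=
  diagram_of_pi [false, true] (by decide +kernel) (by decide +kernel) (by decide +kernel) (by decide +kernel)
theorem diagramB2 : Diagram chevB2 :=
  diagram_of_pi [false, true] (by decide +kernel) (by decide +kernel) (by decide +kernel) (by decide +kernel)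
theorem diagramF4 : Diagram chevF4 :=
  diagram_of_pi [false, false, true, true] (by decide +kernel) (by decide +kernel) (by decide +kernel)
    (by decide +kernel)
theorem diagramD4 : Diagram chevD4 :=
  diagram_of_lace (by decide +kernel) (by decide +kernel) (by decide +kernel)
theorem diagramE6 : Diagram chevE6 :=
  diagram_of_lace (by decide +kernel) (by decide +kernel) (by decide +kernel)
set_option maxHeartbeats 1600000 in
theorem diagramE7 : Diagram chevE7 :=
  diagram_of_lace (by decide +kernel) (by decide +kernel) (by decide +kernel)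
set_option maxHeartbeats 1600000 in
theorem diagramE8 : Diagram chevE8 :=
  diagram_of_lace (by decide +kernel) bondE8 (by decide +kernel)

variable {F : Type*} [Field F]

set_option maxHeartbeats 1000000 in
theorem three_eq_zero_G2 [Finite F] {C : ChevCore chevG2 F}
    {φ : ↥(chevG2.group F) ≃* ↥(chevG2.group F)} (S : Std C φ) (a b : Fin chevG2.rank)
    (ha : a.val = 0) (hb : b.val = 1) (h0 : S.π a = b) (h1 : S.π b = a) : (3 : F) = 0 := by
  have hsa : chevG2.simple a.val = 7 := by rw [ha]; decide +kernel
  have hsb : chevG2.simple b.val = 6 := by rw [hb]; decide +kernel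
  set n := C.nS b * C.nS a with hn
  obtain ⟨-, e, he⟩ := ChevCore.Acts.mul C (C.acts_nS b) (C.acts_nS a)
  obtain ⟨-, -, he'⟩ := he (C.pRoot b)
  have himg : (((C.hR.sPerm b * C.hR.sPerm a) (C.pRoot b) : Fin chevG2.nroots) : ℕ) = 11 := by
    rw [Equiv.Perm.mul_apply, C.hR.sPerm_val, C.hR.sPerm_val]
    show chevG2.reflectRoot b.val (chevG2.reflectRoot a.val (chevG2.simple b.val)) = 11
    rw [ha, hb]; decide +kernel
  have he1 := he' 1
  rw [himg, show ((C.pRoot b : Fin chevG2.nroots) : ℕ) = 6 from hsb, ← hn] at he1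
  set z : F := (e 6 : F) * 1
  have h6 : (6 : ℕ) < chevG2.nroots := by decide +kernel
  have h11 : (11 : ℕ) < chevG2.nroots := by decide +kernel
  have hcom : C.xGL 11 z * C.xGL 6 1 = C.xGL 6 1 * C.xGL 11 z := by
    rw [C.xGL_comm h6 h11 (by decide +kernel) (by decide +kernel) 1 z]
    have : chevG2.commTerms 6 11 = [] := by decide +kernel
    simp [ChevalleyDatum.commWord, this, C.wordGL_nil]
  have hnS : ∀ i, C.nS i ∈ chevG2.group F := fun i => C.nGL_mem_group _ _
  have hnG : n ∈ chevG2.group F := mul_mem (hnS b) (hnS a)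
  rw [← he1] at hcom
  have hc2 := congrArg (app φ) hcom
  have hx : ∀ r t, C.xGL r t ∈ chevG2.group F := C.xGL_mem_group
  rw [app_mul φ (mul_mem (mul_mem hnG (hx _ _)) (inv_mem hnG)) (hx _ _),
    app_mul φ (hx _ _) (mul_mem (mul_mem hnG (hx _ _)) (inv_mem hnG)),
    app_conj φ hnG (hx _ _)] at hc2
  have hφ6 : app φ (C.xGL 6 1) = C.xGL 7 (S.f b 1) := by
    have := S.pos b 1
    rwa [hsb, h1, hsa] at this
  rw [hφ6] at hc2
  have hmv : C.Moves (app φ n) (C.hR.sPerm a * C.hR.sPerm b) := by
    rw [hn, app_mul φ (hnS b) (hnS a)]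
    have hb' := S.moves_app_nS b
    have ha' := S.moves_app_nS a
    rw [h1] at hb'
    rw [h0] at ha'
    exact ChevCore.Moves.mul C hb' ha'
  obtain ⟨u, hu⟩ := hmv.2 (C.pRoot a) (S.f b 1)
  have himg' : (((C.hR.sPerm a * C.hR.sPerm b) (C.pRoot a) : Fin chevG2.nroots) : ℕ) = 9 := by
    rw [Equiv.Perm.mul_apply, C.hR.sPerm_val, C.hR.sPerm_val]
    show chevG2.reflectRoot a.val (chevG2.reflectRoot b.val (chevG2.simple a.val)) = 9
    rw [ha, hb]; decide +kernel
  rw [himg', show ((C.pRoot a : Fin chevG2.nroots) : ℕ) = 7 from hsa] at hu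
  rw [hu] at hc2
  have h7 : (7 : ℕ) < chevG2.nroots := by decide +kernel
  have h9 : (9 : ℕ) < chevG2.nroots := by decide +kernel
  have hz : S.f b 1 ≠ 0 := S.f_ne_zero b one_ne_zero
  have hu0 : u ≠ 0 := by
    rintro rfl
    rw [C.xGL_zero, mul_inv_eq_one, mul_eq_left, C.xGL_eq_one_iff h7] at hu
    exact hz hu
  have h3 := C.xGL_comm h7 h9 (by decide +kernel) (by decide +kernel) (S.f b 1) u
  rw [hc2, left_eq_mul] at h3
  have hterms : chevG2.commTerms 7 9 = [(10, 3, 1, 1)] := by decide +kernel
  simp only [ChevalleyDatum.commWord, hterms, List.map_cons, List.map_nil, C.wordGL_cons,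
    C.wordGL_nil, mul_one, pow_one] at h3
  rw [C.xGL_eq_one_iff (by decide +kernel)] at h3
  simpa [hz, hu0] using h3

end CfsgLib.ChevAut
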